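import Groth.Agent.EtHull.K991.Im
import Groth.Agent.S2906

/-!
# Descent of flat images along flat covers of the base
-/

set_option autoImplicit false
universe u
open CategoryTheory CategoryTheory.Limits AlgebraicGeometry TopologicalSpace Opposite

namespace K991.Descend

open K991.Im

variable {X Y S S' X' E' : Scheme.{u}} {p : S' ⟶ S} {b : Y ⟶ S} {h : X ⟶ Y}
  {h' : X' ⟶ pullback b p} {qX : X' ⟶ X} {m' : E' ⟶ pullback b p}

theorem hom_ext_pts (R : Rep h' m') {T : Scheme.{u}} {v w : T ⟶ E'}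
    (h1 : v ≫ m' ≫ pullback.fst b p = w ≫ m' ≫ pullback.fst b p)
    (h2 : v ≫ m' ≫ pullback.snd b p = w ≫ m' ≫ pullback.snd b p) : v = w := by
  have := R.mono
  rw [← cancel_mono m']
  apply pullback.hom_ext
  · simpa only [Category.assoc] using h1
  · simpa only [Category.assoc] using h2

theorem exists_move (hX : IsPullback qX h' h (pullback.fst b p)) (R : Rep h' m')
    {T : Scheme.{u}} (x₀ x₁ : T ⟶ S') (hx : x₀ ≫ p = x₁ ≫ p) (v : T ⟶ E')
    (hv : v ≫ m' ≫ pullback.snd b p = x₀) :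
    ∃ v₁ : T ⟶ E', v₁ ≫ m' ≫ pullback.fst b p = v ≫ m' ≫ pullback.fst b p ∧
      v₁ ≫ m' ≫ pullback.snd b p = x₁ := by
  have hcond : (v ≫ m' ≫ pullback.fst b p) ≫ b = x₁ ≫ p := by
    rw [← hx, ← hv]
    simp only [Category.assoc, pullback.condition]
  have h1 : Img h' (v ≫ m') := (R.iff _).mp ⟨v, rfl⟩
  rw [img_base hX] at h1
  have h2 : Img h' (pullback.lift (v ≫ m' ≫ pullback.fst b p) x₁ hcond) := by
    rw [img_base hX, pullback.lift_fst]
    simpa only [Category.assoc] using h1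
  obtain ⟨v₁, hv₁⟩ := (R.iff _).mpr h2
  refine ⟨v₁, ?_, ?_⟩
  · rw [← Category.assoc, hv₁, pullback.lift_fst]
  · rw [← Category.assoc, hv₁, pullback.lift_snd]

/-- Moving a point of `E'` from one point of the cover to another one. -/
noncomputable def move (hX : IsPullback qX h' h (pullback.fst b p)) (R : Rep h' m')
    {T : Scheme.{u}} (x₀ x₁ : T ⟶ S') (hx : x₀ ≫ p = x₁ ≫ p)
    (v : Desc.Lifts (Over.mk (m' ≫ pullback.snd b p)) x₀) :
    Desc.Lifts (Over.mk (m' ≫ pullback.snd b p)) x₁ :=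
  ⟨(exists_move hX R x₀ x₁ hx v.1 v.2).choose, (exists_move hX R x₀ x₁ hx v.1 v.2).choose_spec.2⟩

theorem move_fst (hX : IsPullback qX h' h (pullback.fst b p)) (R : Rep h' m')
    {T : Scheme.{u}} (x₀ x₁ : T ⟶ S') (hx : x₀ ≫ p = x₁ ≫ p)
    (v : Desc.Lifts (Over.mk (m' ≫ pullback.snd b p)) x₀) :
    (move hX R x₀ x₁ hx v).1 ≫ m' ≫ pullback.fst b p = v.1 ≫ m' ≫ pullback.fst b p :=
  (exists_move hX R x₀ x₁ hx v.1 v.2).choose_spec.1

theorem lifts_ext (R : Rep h' m') {T : Scheme.{u}} {x : T ⟶ S'}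
    {v w : Desc.Lifts (Over.mk (m' ≫ pullback.snd b p)) x}
    (h1 : v.1 ≫ m' ≫ pullback.fst b p = w.1 ≫ m' ≫ pullback.fst b p) : v = w :=
  Subtype.ext (hom_ext_pts R h1 (v.2.trans w.2.symm))

/-- The descent datum on `E'`. -/
noncomputable def dd (hX : IsPullback qX h' h (pullback.fst b p)) (R : Rep h' m') :
    Desc.SchDD p where
  obj := Over.mk (m' ≫ pullback.snd b p)
  φ := fun T x₀ x₁ hx =>
    { toFun := move hX R x₀ x₁ hx
      invFun := move hX R x₁ x₀ hx.symm
      left_inv := fun v => lifts_ext R (by rw [move_fst, move_fst])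
      right_inv := fun v => lifts_ext R (by rw [move_fst, move_fst]) }
  φ_natural := by
    intro T T' g x₀ x₁ hx hx' v v' hv
    refine hom_ext_pts R ?_ ?_
    · change (move hX R (g ≫ x₀) (g ≫ x₁) hx' v').1 ≫ m' ≫ pullback.fst b p =
        (g ≫ (move hX R x₀ x₁ hx v).1) ≫ m' ≫ pullback.fst b p
      rw [move_fst, Category.assoc, move_fst, hv]
      simp only [Category.assoc]
    · refine (move hX R (g ≫ x₀) (g ≫ x₁) hx' v').2.trans ?_
      rw [Category.assoc]
      exact congrArg (fun z => g ≫ z) (move hX R x₀ x₁ hx v).2.symm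
  φ_self := fun T x v => lifts_ext R (move_fst hX R x x rfl v)
  φ_comp := by
    intro T x₀ x₁ x₂ h₀₁ h₁₂ v
    refine lifts_ext R ?_
    change (move hX R x₁ x₂ h₁₂ (move hX R x₀ x₁ h₀₁ v)).1 ≫ m' ≫ pullback.fst b p =
      (move hX R x₀ x₂ (h₀₁.trans h₁₂) v).1 ≫ m' ≫ pullback.fst b p
    rw [move_fst, move_fst, move_fst]

/-- Descent of flat images along flat covers of the base. -/
theorem exists_rep [Flat p] [Surjective p] [QuasiCompact p]
    (hX : IsPullback qX h' h (pullback.fst b p)) (R : Rep h' m')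
    [Etale (m' ≫ pullback.snd b p)] [IsSeparated (m' ≫ pullback.snd b p)]
    [QuasiCompact (m' ≫ pullback.snd b p)] :
    ∃ (E : Scheme.{u}) (m : E ⟶ Y), Rep h m ∧ Etale (m ≫ b) := by
  let D : Desc.SchDD p := dd hX R
  have i1 : Etale D.obj.hom := ‹Etale (m' ≫ pullback.snd b p)›
  have i2 : IsSeparated D.obj.hom := ‹IsSeparated (m' ≫ pullback.snd b p)›
  have i3 : QuasiCompact D.obj.hom := ‹QuasiCompact (m' ≫ pullback.snd b p)›
  obtain ⟨U, -, -, hUet, ⟨e⟩⟩ := Groth.Agent.S2906.result p D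
  -- the isomorphism on total spaces
  let θ : pullback p U.hom ⟶ E' := e.hom.hom.left
  let θ' : E' ⟶ pullback p U.hom := e.inv.hom.left
  have hθ1 : θ ≫ θ' = 𝟙 _ := by
    have h1 : (e.hom ≫ e.inv).hom.left = (𝟙 ((Desc.toDD p).obj U) : _ ⟶ _).hom.left := by
      rw [e.hom_inv_id]
    exact h1
  have hθ2 : θ' ≫ θ = 𝟙 _ := by
    have h1 : (e.inv ≫ e.hom).hom.left = (𝟙 D : _ ⟶ _).hom.left := by
      rw [e.inv_hom_id]
    exact h1
  have hθ3 : θ ≫ m' ≫ pullback.snd b p = pullback.fst p U.hom := Over.w e.hom.hom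
  -- compatibility with the descent data
  have hcomm : ∀ {T : Scheme.{u}} (t₀ t₁ : T ⟶ pullback p U.hom),
      t₀ ≫ pullback.snd p U.hom = t₁ ≫ pullback.snd p U.hom →
      t₀ ≫ θ ≫ m' ≫ pullback.fst b p = t₁ ≫ θ ≫ m' ≫ pullback.fst b p := by
    intro T t₀ t₁ ht
    have hx : (t₀ ≫ pullback.fst p U.hom) ≫ p = (t₁ ≫ pullback.fst p U.hom) ≫ p := by
      rw [Category.assoc, Category.assoc, pullback.condition, ← Category.assoc, ht, Category.assoc]
    have h1 := e.hom.comm (t₀ ≫ pullback.fst p U.hom) (t₁ ≫ pullback.fst p U.hom) hx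
      ⟨t₀, rfl⟩ ⟨t₀ ≫ θ, by
        change (t₀ ≫ θ) ≫ m' ≫ pullback.snd b p = _
        rw [Category.assoc, hθ3]⟩ rfl
    have h2 : (((Desc.toDD p).obj U).φ (t₀ ≫ pullback.fst p U.hom) (t₁ ≫ pullback.fst p U.hom) hx
        ⟨t₀, rfl⟩).1 = t₁ := by
      apply pullback.hom_ext
      · exact pullback.lift_fst _ _ _
      · exact (pullback.lift_snd _ _ _).trans ht
    rw [h2] at h1
    have h3 := move_fst hX R (t₀ ≫ pullback.fst p U.hom) (t₁ ≫ pullback.fst p U.hom) hx
      ⟨t₀ ≫ θ, by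
        change (t₀ ≫ θ) ≫ m' ≫ pullback.snd b p = _
        rw [Category.assoc, hθ3]⟩
    have h4 : (move hX R (t₀ ≫ pullback.fst p U.hom) (t₁ ≫ pullback.fst p U.hom) hx
      ⟨t₀ ≫ θ, by
        change (t₀ ≫ θ) ≫ m' ≫ pullback.snd b p = _
        rw [Category.assoc, hθ3]⟩).1 = t₁ ≫ θ := h1
    rw [h4] at h3
    simpa only [Category.assoc] using h3.symm
  let c : pullback p U.hom ⟶ U.left := pullback.snd p U.hom
  let k : pullback p U.hom ⟶ Y := θ ≫ m' ≫ pullback.fst b p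
  have hk : ∀ {Z : Scheme.{u}} (g₁ g₂ : Z ⟶ pullback p U.hom), g₁ ≫ c = g₂ ≫ c → g₁ ≫ k = g₂ ≫ k :=
    fun g₁ g₂ hg => hcomm g₁ g₂ hg
  let m : U.left ⟶ Y := EffectiveEpi.desc c k hk
  have hm : c ≫ m = k := EffectiveEpi.fac c k hk
  have hmb : m ≫ b = U.hom := by
    rw [← cancel_epi c, ← Category.assoc, hm]
    change (θ ≫ m' ≫ pullback.fst b p) ≫ b = pullback.snd p U.hom ≫ U.hom
    rw [← pullback.condition, ← hθ3]
    simp only [Category.assoc, pullback.condition]
  have hmono : Mono m := by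
    refine ⟨fun {T} w₀ w₁ hw => ?_⟩
    have hw' : w₀ ≫ U.hom = w₁ ≫ U.hom := by
      rw [← hmb, ← Category.assoc, hw, Category.assoc]
    let T' := pullback p (w₀ ≫ U.hom)
    let x : T' ⟶ S' := pullback.fst p (w₀ ≫ U.hom)
    let d : T' ⟶ T := pullback.snd p (w₀ ≫ U.hom)
    have hd : x ≫ p = d ≫ w₀ ≫ U.hom := pullback.condition
    have hd' : x ≫ p = d ≫ w₁ ≫ U.hom := by rw [hd, hw']
    let t₀ : T' ⟶ pullback p U.hom := pullback.lift x (d ≫ w₀) (by rw [Category.assoc]; exact hd)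
    let t₁ : T' ⟶ pullback p U.hom := pullback.lift x (d ≫ w₁) (by rw [Category.assoc]; exact hd')
    have ht₀ : t₀ ≫ c = d ≫ w₀ := pullback.lift_snd _ _ _
    have ht₁ : t₁ ≫ c = d ≫ w₁ := pullback.lift_snd _ _ _
    have ht : t₀ ≫ θ = t₁ ≫ θ := by
      apply hom_ext_pts R
      · have e1 : (t₀ ≫ θ) ≫ m' ≫ pullback.fst b p = d ≫ w₀ ≫ m := by
          rw [Category.assoc]
          change t₀ ≫ k = _
          rw [← hm, ← Category.assoc, ht₀, Category.assoc]
        have e2 : (t₁ ≫ θ) ≫ m' ≫ pullback.fst b p = d ≫ w₁ ≫ m := by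
          rw [Category.assoc]
          change t₁ ≫ k = _
          rw [← hm, ← Category.assoc, ht₁, Category.assoc]
        rw [e1, e2, hw]
      · rw [Category.assoc, Category.assoc, hθ3]
        exact (pullback.lift_fst _ _ _).trans (pullback.lift_fst _ _ _).symm
    have ht' : t₀ = t₁ := by
      rw [← Category.comp_id t₀, ← Category.comp_id t₁, ← hθ1, ← Category.assoc, ht,
        Category.assoc]
    rw [← cancel_epi d, ← ht₀, ← ht₁, ht']
  refine ⟨U.left, m, ⟨hmono, ?_⟩, ?_⟩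
  · intro T y
    let T' := pullback p (y ≫ b)
    let x : T' ⟶ S' := pullback.fst p (y ≫ b)
    let d : T' ⟶ T := pullback.snd p (y ≫ b)
    have hd : x ≫ p = d ≫ y ≫ b := pullback.condition
    constructor
    · rintro ⟨w, rfl⟩
      apply img_of_cov d
      have hd1 : x ≫ p = (d ≫ w) ≫ U.hom := by
        rw [hd, ← hmb]
        simp only [Category.assoc]
      let t : T' ⟶ pullback p U.hom := pullback.lift x (d ≫ w) hd1
      have ht : t ≫ c = d ≫ w := pullback.lift_snd _ _ _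
      have e1 : d ≫ w ≫ m = ((t ≫ θ) ≫ m') ≫ pullback.fst b p := by
        simp only [Category.assoc]
        change _ = t ≫ k
        rw [← hm, ← Category.assoc, ← Category.assoc, ht]
      rw [e1, ← img_base hX]
      exact (R.iff _).mp ⟨t ≫ θ, rfl⟩
    · intro hy
      have h1 : Img h' (pullback.lift (d ≫ y) x (by rw [hd, Category.assoc])) := by
        rw [img_base hX, pullback.lift_fst]
        exact hy.precomp d
      obtain ⟨v', hv'⟩ := (R.iff _).mpr h1
      refine exists_lift_of_cov m d y (v' ≫ θ' ≫ c) ?_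
      rw [Category.assoc, Category.assoc, hm]
      change v' ≫ θ' ≫ θ ≫ m' ≫ pullback.fst b p = _
      rw [← Category.assoc θ', hθ2, Category.id_comp, ← Category.assoc, hv', pullback.lift_fst]
  · rw [hmb]
    exact hUet

end K991.Descend
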