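import Groth.Agent.S1417
import Groth.Agent.Flat2H.FSLift
import Mathlib.AlgebraicGeometry.Morphisms.FlatMono
import Mathlib.AlgebraicGeometry.Noetherian

/-!
# Equalizers of morphisms to formally unramified schemes

The locus in a locally Noetherian scheme where two morphisms to a formally unramified scheme agree is
open.
-/

set_option autoImplicit false
universe u
open CategoryTheory CategoryTheory.Limits AlgebraicGeometry TopologicalSpace Opposite

namespace K991.Diag

theorem isOpenImmersion_of_equalizes {Y S C W : Scheme.{u}} (b : Y ⟶ S) [FormallyUnramified b]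
    [IsLocallyNoetherian C] (g₁ g₂ : C ⟶ Y) (hg : g₁ ≫ b = g₂ ≫ b) (i : W ⟶ C) [Mono i]
    [LocallyOfFiniteType i] (hi : i ≫ g₁ = i ≫ g₂)
    (hlift : ∀ {T : Scheme.{u}} (t : T ⟶ C), t ≫ g₁ = t ≫ g₂ → ∃ v, v ≫ i = t) :
    IsOpenImmersion i := by
  have hsm : Smooth i := by
    refine Groth.Agent.S1417.smooth_of_lifting i ?_
    intro B B' _ _ _ _ _ _ φ ε hφ hker hε α β _ hαβ
    have h1 : ε ∈ IsLocalRing.maximalIdeal B' := by
      have h2 : ε ∈ RingHom.ker φ := by rw [hker]; exact Ideal.mem_span_singleton_self ε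
      rw [IsLocalRing.mem_maximalIdeal, mem_nonunits_iff]
      intro hu
      have h3 := hu.map φ
      rw [(RingHom.mem_ker).mp h2] at h3
      exact not_isUnit_zero h3
    have hnil : (RingHom.ker φ) ^ 2 = ⊥ := by
      rw [hker, pow_two, Ideal.span_singleton_mul_span_singleton, hε ε h1, Ideal.span_singleton_zero]
    have hcl : IsClosedImmersion (Spec.map (CommRingCat.ofHom φ)) :=
      IsClosedImmersion.spec_of_surjective _ hφ
    have heq : β ≫ g₁ = β ≫ g₂ := by
      refine FormallyUnramified.hom_ext (Spec.map (CommRingCat.ofHom φ)) ?_ b ?_ ?_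
      · apply Groth.Agent.Flat2H.FSLift.isNilpotent_ker_of_appTop
        refine ⟨2, Groth.Agent.Flat2H.FSLift.ker_SpecMap_appTop_pow _ 2 ?_⟩
        rw [CommRingCat.hom_ofHom, hnil]
      · rw [← Category.assoc, hαβ, Category.assoc, hi, ← Category.assoc, ← hαβ, Category.assoc]
      · rw [Category.assoc, hg, Category.assoc]
    obtain ⟨γ, hγ⟩ := hlift β heq
    refine ⟨γ, ?_, hγ⟩
    rw [← cancel_mono i, Category.assoc, hγ, hαβ]
  exact IsOpenImmersion.of_flat_of_mono i

end K991.Diag
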