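import Groth.Agent.EtHull.K991.Im
import Mathlib.AlgebraicGeometry.Limits

/-!
# Flat images of disjoint unions
-/

set_option autoImplicit false
universe u
open CategoryTheory CategoryTheory.Limits AlgebraicGeometry TopologicalSpace Opposite

namespace K991.Disj

open K991.Im

variable {X Y X₁ X₂ E₁ E₂ : Scheme.{u}}

theorem isEmpty_of_isIm {h₁ : X₁ ⟶ Y} {h₂ : X₂ ⟶ Y} {u₁ : X₁ ⟶ E₁} {m₁ : E₁ ⟶ Y}
    {u₂ : X₂ ⟶ E₂} {m₂ : E₂ ⟶ Y} (I₁ : IsIm h₁ u₁ m₁) (I₂ : IsIm h₂ u₂ m₂)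
    (hdis : ∀ {T : Scheme.{u}} (a : T ⟶ X₁) (b : T ⟶ X₂), a ≫ h₁ = b ≫ h₂ → IsEmpty T)
    {T : Scheme.{u}} (a : T ⟶ E₁) (b : T ⟶ E₂) (hab : a ≫ m₁ = b ≫ m₂) : IsEmpty T := by
  have s1 : Surjective u₁ := ((cov_iff _).mp I₁.cov).1
  have s2 : Surjective u₂ := ((cov_iff _).mp I₂.cov).1
  let c : pullback (pullback.fst a u₁) (pullback.fst b u₂) ⟶ T :=
    pullback.fst (pullback.fst a u₁) (pullback.fst b u₂) ≫ pullback.fst a u₁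
  have hc : Surjective c := inferInstance
  have h1 : IsEmpty ↥(pullback (pullback.fst a u₁) (pullback.fst b u₂)) := by
    refine hdis (pullback.fst _ _ ≫ pullback.snd a u₁) (pullback.snd _ _ ≫ pullback.snd b u₂) ?_
    rw [← I₁.w, ← I₂.w]
    simp only [Category.assoc]
    rw [← pullback.condition_assoc, ← pullback.condition_assoc, ← pullback.condition_assoc, hab]
  refine ⟨fun x => ?_⟩
  obtain ⟨y, -⟩ := c.surjective x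
  exact h1.false y

theorem mono_coprodDesc {m₁ : E₁ ⟶ Y} {m₂ : E₂ ⟶ Y} [Mono m₁] [Mono m₂]
    (hdis : ∀ {T : Scheme.{u}} (a : T ⟶ E₁) (b : T ⟶ E₂), a ≫ m₁ = b ≫ m₂ → IsEmpty T) :
    Mono (coprod.desc m₁ m₂) := by
  refine ⟨fun {T} v w hvw => ?_⟩
  have hcov : ∀ x : ↥(E₁ ⨿ E₂ : Scheme.{u}), x ∈ (coprod.inl : E₁ ⟶ E₁ ⨿ E₂).opensRange ∨
      x ∈ (coprod.inr : E₂ ⟶ E₁ ⨿ E₂).opensRange := by
    intro x
    have h1 := (isCompl_opensRange_inl_inr E₁ E₂).2.eq_top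
    have h2 : x ∈ (coprod.inl : E₁ ⟶ E₁ ⨿ E₂).opensRange ⊔
      (coprod.inr : E₂ ⟶ E₁ ⨿ E₂).opensRange := by rw [h1]; trivial
    exact h2
  refine Scheme.hom_ext_of_forall _ _ fun x => ?_
  have lift1 : ∀ (U : T.Opens) (t : T ⟶ E₁ ⨿ E₂),
      U ≤ t ⁻¹ᵁ (coprod.inl : E₁ ⟶ E₁ ⨿ E₂).opensRange → ∃ a : U.toScheme ⟶ E₁, a ≫ coprod.inl = U.ι ≫ t := by
    intro U t hU
    refine ⟨IsOpenImmersion.lift coprod.inl (U.ι ≫ t) ?_, IsOpenImmersion.lift_fac _ _ _⟩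
    rintro _ ⟨z, rfl⟩
    exact hU z.2
  have lift2 : ∀ (U : T.Opens) (t : T ⟶ E₁ ⨿ E₂),
      U ≤ t ⁻¹ᵁ (coprod.inr : E₂ ⟶ E₁ ⨿ E₂).opensRange → ∃ a : U.toScheme ⟶ E₂, a ≫ coprod.inr = U.ι ≫ t := by
    intro U t hU
    refine ⟨IsOpenImmersion.lift coprod.inr (U.ι ≫ t) ?_, IsOpenImmersion.lift_fac _ _ _⟩
    rintro _ ⟨z, rfl⟩
    exact hU z.2
  rcases hcov (v x) with hv | hv <;> rcases hcov (w x) with hw | hw
  · refine ⟨v ⁻¹ᵁ (coprod.inl : E₁ ⟶ E₁ ⨿ E₂).opensRange ⊓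
      w ⁻¹ᵁ (coprod.inl : E₁ ⟶ E₁ ⨿ E₂).opensRange, ⟨hv, hw⟩, ?_⟩
    obtain ⟨a, ha⟩ := lift1 _ v inf_le_left
    obtain ⟨b, hb⟩ := lift1 _ w inf_le_right
    rw [← ha, ← hb]
    congr 1
    rw [← cancel_mono m₁]
    have e1 : a ≫ m₁ = (a ≫ coprod.inl) ≫ coprod.desc m₁ m₂ := by
      rw [Category.assoc, coprod.inl_desc]
    have e2 : b ≫ m₁ = (b ≫ coprod.inl) ≫ coprod.desc m₁ m₂ := by
      rw [Category.assoc, coprod.inl_desc]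
    rw [e1, e2, ha, hb, Category.assoc, Category.assoc, hvw]
  · exfalso
    obtain ⟨a, ha⟩ := lift1 (v ⁻¹ᵁ (coprod.inl : E₁ ⟶ E₁ ⨿ E₂).opensRange ⊓
      w ⁻¹ᵁ (coprod.inr : E₂ ⟶ E₁ ⨿ E₂).opensRange) v inf_le_left
    obtain ⟨b, hb⟩ := lift2 _ w inf_le_right
    refine (hdis a b ?_).false ⟨x, hv, hw⟩
    have e1 : a ≫ m₁ = (a ≫ coprod.inl) ≫ coprod.desc m₁ m₂ := by
      rw [Category.assoc, coprod.inl_desc]
    have e2 : b ≫ m₂ = (b ≫ coprod.inr) ≫ coprod.desc m₁ m₂ := by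
      rw [Category.assoc, coprod.inr_desc]
    rw [e1, e2, ha, hb, Category.assoc, Category.assoc, hvw]
  · exfalso
    obtain ⟨a, ha⟩ := lift2 (v ⁻¹ᵁ (coprod.inr : E₂ ⟶ E₁ ⨿ E₂).opensRange ⊓
      w ⁻¹ᵁ (coprod.inl : E₁ ⟶ E₁ ⨿ E₂).opensRange) v inf_le_left
    obtain ⟨b, hb⟩ := lift1 _ w inf_le_right
    refine (hdis b a ?_).false ⟨x, hv, hw⟩
    have e1 : b ≫ m₁ = (b ≫ coprod.inl) ≫ coprod.desc m₁ m₂ := by
      rw [Category.assoc, coprod.inl_desc]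
    have e2 : a ≫ m₂ = (a ≫ coprod.inr) ≫ coprod.desc m₁ m₂ := by
      rw [Category.assoc, coprod.inr_desc]
    rw [e1, e2, ha, hb, Category.assoc, Category.assoc, hvw]
  · refine ⟨v ⁻¹ᵁ (coprod.inr : E₂ ⟶ E₁ ⨿ E₂).opensRange ⊓
      w ⁻¹ᵁ (coprod.inr : E₂ ⟶ E₁ ⨿ E₂).opensRange, ⟨hv, hw⟩, ?_⟩
    obtain ⟨a, ha⟩ := lift2 _ v inf_le_left
    obtain ⟨b, hb⟩ := lift2 _ w inf_le_right
    rw [← ha, ← hb]
    congr 1
    rw [← cancel_mono m₂]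
    have e1 : a ≫ m₂ = (a ≫ coprod.inr) ≫ coprod.desc m₁ m₂ := by
      rw [Category.assoc, coprod.inr_desc]
    have e2 : b ≫ m₂ = (b ≫ coprod.inr) ≫ coprod.desc m₁ m₂ := by
      rw [Category.assoc, coprod.inr_desc]
    rw [e1, e2, ha, hb, Category.assoc, Category.assoc, hvw]

/-- Flat images of disjoint unions with disjoint images. -/
theorem exists_isIm_of_isCompl (i₁ : X₁ ⟶ X) (i₂ : X₂ ⟶ X) [IsOpenImmersion i₁]
    [IsOpenImmersion i₂] (hc : IsCompl i₁.opensRange i₂.opensRange) (h : X ⟶ Y)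
    {u₁ : X₁ ⟶ E₁} {m₁ : E₁ ⟶ Y} {u₂ : X₂ ⟶ E₂} {m₂ : E₂ ⟶ Y}
    (I₁ : IsIm (i₁ ≫ h) u₁ m₁) (I₂ : IsIm (i₂ ≫ h) u₂ m₂)
    (hdis : ∀ {T : Scheme.{u}} (a : T ⟶ X₁) (b : T ⟶ X₂), a ≫ i₁ ≫ h = b ≫ i₂ ≫ h → IsEmpty T) :
    ∃ u : X ⟶ E₁ ⨿ E₂, IsIm h u (coprod.desc m₁ m₂) := by
  obtain ⟨hcol⟩ := nonempty_isColimit_binaryCofanMk_of_isCompl i₁ i₂ hc
  have hiso : IsIso (coprod.desc i₁ i₂) := by
    let e := (coprodIsCoprod X₁ X₂).coconePointUniqueUpToIso hcol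
    have h1 : coprod.desc i₁ i₂ = e.hom := by
      apply coprod.hom_ext
      · rw [coprod.inl_desc]
        exact ((coprodIsCoprod X₁ X₂).comp_coconePointUniqueUpToIso_hom hcol ⟨WalkingPair.left⟩).symm
      · rw [coprod.inr_desc]
        exact ((coprodIsCoprod X₁ X₂).comp_coconePointUniqueUpToIso_hom hcol ⟨WalkingPair.right⟩).symm
    rw [h1]
    infer_instance
  have i1 := I₁.mono
  have i2 := I₂.mono
  refine ⟨inv (coprod.desc i₁ i₂) ≫ coprod.map u₁ u₂, ?_, ?_, ?_⟩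
  · rw [(cov.{u}).cancel_left_of_respectsIso]
    exact IsZariskiLocalAtTarget.coprodMap _ _ I₁.cov I₂.cov
  · exact mono_coprodDesc (isEmpty_of_isIm I₁ I₂ hdis)
  · rw [Category.assoc, IsIso.inv_comp_eq]
    apply coprod.hom_ext
    · rw [coprod.inl_map_assoc, coprod.inl_desc, coprod.inl_desc_assoc, I₁.w]
    · rw [coprod.inr_map_assoc, coprod.inr_desc, coprod.inr_desc_assoc, I₂.w]

theorem etale_coprodDesc {S : Scheme.{u}} (e₁ : E₁ ⟶ S) (e₂ : E₂ ⟶ S) [Etale e₁] [Etale e₂] :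
    Etale (coprod.desc e₁ e₂) := by
  rw [IsZariskiLocalAtSource.iff_of_openCover (P := @Etale) (coprodOpenCover.{u, 0} E₁ E₂)]
  rintro (⟨⟨⟩⟩ | ⟨⟨⟩⟩)
  · change Etale (coprod.inl ≫ coprod.desc e₁ e₂)
    rw [coprod.inl_desc]
    infer_instance
  · change Etale (coprod.inr ≫ coprod.desc e₁ e₂)
    rw [coprod.inr_desc]
    infer_instance

end K991.Disj
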