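import Groth.Agent.Divis.AssRing
import Groth.Agent.Fdesc.StructMod
import Groth.Agent.Flat2F.FlatWeight
import Mathlib.AlgebraicGeometry.Morphisms.SchemeTheoreticallyDominant
import Mathlib.AlgebraicGeometry.Morphisms.Flat
import Mathlib.AlgebraicGeometry.Noetherian
import Mathlib.AlgebraicGeometry.Morphisms.UniversallyOpen
import Groth.Agent.Fdesc.AssFlatAlg

/-!
# Scheme-theoretic dominance of flat morphisms and associated points

For a flat morphism `u : X ⟶ E` to a locally Noetherian scheme, `u` is scheme-theoretically dominant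
iff its image contains the associated points of `E`.  Associated points of étale schemes.
-/

set_option autoImplicit false
universe u
open CategoryTheory CategoryTheory.Limits AlgebraicGeometry TopologicalSpace Opposite

namespace K991.DomCrit

/-- The associated points of (the structure sheaf of) a scheme. -/
def AssPt (X : Scheme.{u}) : Set X :=
  {x | IsAssociatedPrime (IsLocalRing.maximalIdeal (X.presheaf.stalk x)) (X.presheaf.stalk x)}

lemma mem_Ass_iff {X : Scheme.{u}} (x : X) :
    x ∈ AssSch.Ass (Coh.structureModule X) ↔ x ∈ AssPt X :=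
  Groth.Agent.Fdesc.StructMod.mem_Ass_structureModule_iff_stalk x

section Algebra

/-- Sections supported off a generization-stable set, and localization at an element. -/
theorem exists_pow {A : Type*} [CommRing A] [IsNoetherianRing A] (W : Set (PrimeSpectrum A))
    (hW : ∀ p ∈ W, ∀ q : PrimeSpectrum A, q.asIdeal ≤ p.asIdeal → q ∈ W) (f t : A)
    (h : ∀ p ∈ W, f ∉ p.asIdeal → ∃ g ∉ p.asIdeal, g * t = 0) :
    ∃ m : ℕ, ∀ p ∈ W, ∃ g ∉ p.asIdeal, g * (f ^ m * t) = 0 := by
  let ann : ℕ →o Ideal A :=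
    { toFun := fun m => LinearMap.ker (LinearMap.toSpanSingleton A A (f ^ m * t))
      monotone' := by
        intro m n hmn a ha
        rw [LinearMap.mem_ker, LinearMap.toSpanSingleton_apply, smul_eq_mul] at ha ⊢
        obtain ⟨l, rfl⟩ := Nat.exists_eq_add_of_le hmn
        rw [pow_add, show a * (f ^ m * f ^ l * t) = f ^ l * (a * (f ^ m * t)) by ring, ha,
          mul_zero] }
  obtain ⟨m, hm⟩ := monotone_stabilizes_iff_noetherian.mpr ‹IsNoetherianRing A› ann
  have hm1 : ∀ a : A, a * (f ^ (m + 1) * t) = 0 → a * (f ^ m * t) = 0 := by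
    intro a ha
    have h1 : a ∈ ann (m + 1) := ha
    rw [← hm (m + 1) (Nat.le_succ m)] at h1
    exact h1
  refine ⟨m, fun p hp => ?_⟩
  by_contra hcon
  push Not at hcon
  set s := f ^ m * t with hs
  have hann : (Submodule.span A {s}).annihilator ≤ p.asIdeal := by
    intro g hg
    by_contra hgp
    apply hcon g hgp
    rw [Submodule.mem_annihilator_span_singleton] at hg
    exact hg
  obtain ⟨q, hq, hqp⟩ := Ideal.exists_minimalPrimes_le hann
  have hqprime : q.IsPrime := hq.1.1
  have hqW : (⟨q, hqprime⟩ : PrimeSpectrum A) ∈ W := hW p hp _ hqp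
  have hqA : q ∈ associatedPrimes A (Submodule.span A {s}) := by
    apply Module.associatedPrimes.minimalPrimes_annihilator_subset_associatedPrimes
    exact hq
  obtain ⟨-, ⟨y, hy⟩, hyq⟩ := isAssociatedPrime_iff.mp hqA
  obtain ⟨b, rfl⟩ := Submodule.mem_span_singleton.mp hy
  have hyq' : ∀ a : A, a ∈ q ↔ a * (b * s) = 0 := by
    intro a
    rw [hyq, Submodule.mem_colon_singleton, Submodule.mem_bot]
    rw [← Subtype.coe_inj]
    simp
  have hfq : f ∉ q := by
    intro hf
    rw [hyq'] at hf
    have h1 : b * (f ^ (m + 1) * t) = 0 := by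
      rw [← hf, hs, pow_succ]; ring
    have h2 := hm1 b h1
    have h3 : (1 : A) ∈ q := by rw [hyq', one_mul]; exact h2
    exact hqprime.ne_top ((Ideal.eq_top_iff_one q).mpr h3)
  obtain ⟨g, hg, hgt⟩ := h _ hqW hfq
  apply hg
  change g ∈ q
  rw [hyq', hs]
  have : g * (b * (f ^ m * t)) = b * f ^ m * (g * t) := by ring
  rw [this, hgt, mul_zero]

end Algebra

section Sections

variable {X : Scheme.{u}} {U : X.Opens} (hU : IsAffineOpen U)

include hU in
theorem exists_assPt_germ_ne_zero [IsLocallyNoetherian X] (s : Γ(X, U)) (hs : s ≠ 0) :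
    ∃ (x : X) (hx : x ∈ U), x ∈ AssPt X ∧ X.presheaf.germ U x hx s ≠ 0 := by
  have : IsNoetherianRing Γ(X, U) := IsLocallyNoetherian.component_noetherian ⟨U, hU⟩
  obtain ⟨P, hP, hle⟩ := exists_le_isAssociatedPrime_of_isNoetherianRing Γ(X, U) s hs
  have := hP.isPrime
  obtain ⟨x, hx, hxP⟩ := Groth.Agent.Fdesc.AssPoints.exists_primeIdealOf_eq hU P
  refine ⟨x, hx, ?_, fun h0 => ?_⟩
  · exact (Groth.Agent.Divis.AssRing.isAssociatedPrime_stalk_iff hU hx).mpr (hxP ▸ hP)
  · obtain ⟨g, hg, hg0⟩ :=
      Groth.Agent.Divis.AssRing.exists_mul_eq_zero_of_germ_eq_zero hU hx s h0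
    rw [hxP] at hg
    exact hg (hle (Submodule.mem_colon_singleton.mpr (by simpa using hg0)))

include hU in
theorem exists_section_of_mem_assPt [IsLocallyNoetherian X] (x : X) (hx : x ∈ U)
    (h : x ∈ AssPt X) : ∃ t : Γ(X, U), ∀ a : Γ(X, U), a * t = 0 ↔
      a ∈ (hU.primeIdealOf ⟨x, hx⟩).asIdeal := by
  have : IsNoetherianRing Γ(X, U) := IsLocallyNoetherian.component_noetherian ⟨U, hU⟩
  have h1 := (Groth.Agent.Divis.AssRing.isAssociatedPrime_stalk_iff hU hx).mp h
  obtain ⟨-, m, hm⟩ := isAssociatedPrime_iff.mp h1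
  refine ⟨m, fun a => ?_⟩
  rw [hm, Submodule.mem_colon_singleton]
  simp

/-- The germ of a section at a point vanishes iff it is killed by a function not vanishing there. -/
theorem germ_eq_zero_iff {x : X} (hx : x ∈ U) (t : Γ(X, U)) :
    X.presheaf.germ U x hx t = 0 ↔ ∃ g ∉ (hU.primeIdealOf ⟨x, hx⟩).asIdeal, g * t = 0 := by
  constructor
  · exact Groth.Agent.Divis.AssRing.exists_mul_eq_zero_of_germ_eq_zero hU hx t
  · rintro ⟨g, hg, hgt⟩
    have h1 : X.presheaf.germ U x hx g * X.presheaf.germ U x hx t = 0 := by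
      rw [← map_mul, hgt, map_zero]
    have h2 : IsUnit (X.presheaf.germ U x hx g) := by
      rw [Groth.Agent.Fdesc.QCohStalk.mem_primeIdealOf_iff hU x hx g,
        IsLocalRing.mem_maximalIdeal, mem_nonunits_iff, not_not] at hg
      exact hg
    exact (h2.mul_right_eq_zero).mp h1

end Sections

section Dom

variable {X E : Scheme.{u}}

/-- Functions on `V` whose germs vanish at the points of `W`. -/
def vanIdeal (W : Set E) (V : E.Opens) : Ideal Γ(E, V) where
  carrier := {t | ∀ (v : E) (hv : v ∈ V), v ∈ W → E.presheaf.germ V v hv t = 0}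
  add_mem' := by
    intro a b ha hb v hv hvW
    rw [map_add, ha v hv hvW, hb v hv hvW, add_zero]
  zero_mem' := by
    intro v hv _
    rw [map_zero]
  smul_mem' := by
    intro c a ha v hv hvW
    rw [smul_eq_mul, map_mul, ha v hv hvW, mul_zero]

lemma mem_vanIdeal {W : Set E} {V : E.Opens} {t : Γ(E, V)} :
    t ∈ vanIdeal W V ↔ ∀ (v : E) (hv : v ∈ V), v ∈ W → E.presheaf.germ V v hv t = 0 := Iff.rfl

theorem map_vanIdeal [IsLocallyNoetherian E] (W : Set E) (hW : StableUnderGeneralization W)
    (V : E.affineOpens) (f : Γ(E, V)) :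
    (vanIdeal W V.1).map (E.presheaf.map (homOfLE <| E.basicOpen_le f).op).hom =
      vanIdeal W (E.basicOpen f) := by
  have hN : IsNoetherianRing Γ(E, V) := IsLocallyNoetherian.component_noetherian V
  apply le_antisymm
  · rw [Ideal.map_le_iff_le_comap]
    intro t ht v hv hvW
    have := ht v (E.basicOpen_le f hv) hvW
    rw [← this]
    exact TopCat.Presheaf.germ_res_apply E.presheaf (homOfLE <| E.basicOpen_le f) v hv t
  · intro t' ht'
    have hloc : IsLocalization.Away f Γ(E, E.basicOpen f) := V.2.isLocalization_basicOpen f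
    obtain ⟨⟨t, ⟨_, n, rfl⟩⟩, ht⟩ := IsLocalization.surj (Submonoid.powers f) (S := Γ(E, E.basicOpen f)) t'
    have ht : t' * (E.presheaf.map (homOfLE <| E.basicOpen_le f).op).hom (f ^ n) =
      (E.presheaf.map (homOfLE <| E.basicOpen_le f).op).hom t := ht
    obtain ⟨m, hm⟩ := exists_pow (A := Γ(E, V))
      {p | ∃ (v : E) (hv : v ∈ V.1), v ∈ W ∧ V.2.primeIdealOf ⟨v, hv⟩ = p} (by
        rintro p ⟨v, hv, hvW, rfl⟩ q hq
        obtain ⟨w, hw, hwq⟩ := Groth.Agent.Fdesc.AssPoints.exists_primeIdealOf_eq V.2 q.asIdeal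
        have hwq' : V.2.primeIdealOf ⟨w, hw⟩ = q := PrimeSpectrum.ext hwq
        refine ⟨w, hw, hW ?_ hvW, hwq'⟩
        have h1 : q ⤳ V.2.primeIdealOf ⟨v, hv⟩ := (PrimeSpectrum.le_iff_specializes _ _).mp hq
        have h2 := h1.map V.2.fromSpec.continuous
        rw [← hwq', V.2.fromSpec_primeIdealOf ⟨v, hv⟩, V.2.fromSpec_primeIdealOf ⟨w, hw⟩] at h2
        exact h2) f t (by
        rintro p ⟨v, hv, hvW, rfl⟩ hfp
        rw [← germ_eq_zero_iff V.2 hv]
        have hvf : v ∈ E.basicOpen f := by
          rw [Groth.Agent.Fdesc.QCohStalk.mem_basicOpen_iff V.2 v hv f]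
          exact hfp
        have h1 := ht' v hvf hvW
        have h2 : E.presheaf.germ (E.basicOpen f) v hvf
            ((E.presheaf.map (homOfLE <| E.basicOpen_le f).op).hom t) = 0 := by
          rw [← ht, map_mul, h1, zero_mul]
        rw [← h2]
        exact (TopCat.Presheaf.germ_res_apply E.presheaf (homOfLE <| E.basicOpen_le f) v hvf t).symm)
    have hmem : f ^ m * t ∈ vanIdeal W V.1 := by
      intro v hv hvW
      rw [germ_eq_zero_iff V.2 hv]
      exact hm _ ⟨v, hv, hvW, rfl⟩
    have h3 := Ideal.mem_map_of_mem (E.presheaf.map (homOfLE <| E.basicOpen_le f).op).hom hmem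
    rw [map_mul, ← ht] at h3
    have hu : IsUnit ((E.presheaf.map (homOfLE <| E.basicOpen_le f).op).hom f) :=
      IsLocalization.Away.algebraMap_isUnit (S := Γ(E, E.basicOpen f)) f
    rw [map_pow, map_pow] at h3
    have h4 := (Ideal.unit_mul_mem_iff_mem _ (hu.pow m)).mp h3
    exact (Ideal.mul_unit_mem_iff_mem _ (hu.pow n)).mp h4

/-- The ideal sheaf of functions vanishing on a generization-stable set of points. -/
def vanSheaf [IsLocallyNoetherian E] (W : Set E) (hW : StableUnderGeneralization W) :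
    E.IdealSheafData where
  ideal V := vanIdeal W V.1
  map_ideal_basicOpen V f := map_vanIdeal W hW V f

lemma stalkMap_injective (u : X ⟶ E) [Flat u] (x : X) :
    Function.Injective (u.stalkMap x).hom := by
  have h1 : (u.stalkMap x).hom.Flat := Flat.stalkMap u x
  algebraize [(u.stalkMap x).hom]
  have : IsLocalHom (algebraMap (E.presheaf.stalk (u x)) (X.presheaf.stalk x)) :=
    inferInstanceAs <| IsLocalHom (u.stalkMap x).hom
  have : Module.FaithfullyFlat (E.presheaf.stalk (u x)) (X.presheaf.stalk x) :=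
    Module.FaithfullyFlat.of_flat_of_isLocalHom
  exact FaithfulSMul.algebraMap_injective (E.presheaf.stalk (u x)) (X.presheaf.stalk x)

lemma germ_app (u : X ⟶ E) (V : E.Opens) (t : Γ(E, V)) (x : X) (hx : u x ∈ V) :
    X.presheaf.germ (u ⁻¹ᵁ V) x hx ((u.app V).hom t) =
      (u.stalkMap x).hom (E.presheaf.germ V (u x) hx t) := by
  exact (Scheme.Hom.germ_stalkMap_apply u V x hx t).symm

/-- A flat morphism whose image contains the associated points is scheme-theoretically dominant. -/
theorem dominant_of_assPt_subset [IsLocallyNoetherian E] (u : X ⟶ E) [Flat u]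
    (h : AssPt E ⊆ Set.range u) : IsSchemeTheoreticallyDominant u := by
  refine ⟨?_⟩
  rw [eq_bot_iff]
  intro V s hs
  have hs0 := u.ideal_ker_le V hs
  rw [RingHom.mem_ker] at hs0
  simp only [Scheme.IdealSheafData.ideal_bot, Pi.bot_apply, Ideal.mem_bot]
  by_contra hne
  obtain ⟨e, he, heA, hge⟩ := exists_assPt_germ_ne_zero V.2 s hne
  obtain ⟨x, rfl⟩ := h heA
  apply hge
  apply stalkMap_injective u x
  rw [map_zero, ← germ_app u V.1 s x he]
  have : (u.app V.1).hom s = 0 := hs0
  rw [this, map_zero]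

theorem stableUnderGeneralization_range (u : X ⟶ E) [Flat u] :
    StableUnderGeneralization (Set.range u) := by
  rintro _ y hy ⟨x, rfl⟩
  obtain ⟨z, -, hz⟩ := Flat.generalizingMap u hy
  exact ⟨z, hz⟩

/-- The image of a scheme-theoretically dominant flat morphism to a locally Noetherian scheme contains
the associated points. -/
theorem assPt_subset_range [IsLocallyNoetherian E] (u : X ⟶ E) [Flat u]
    [IsSchemeTheoreticallyDominant u] : AssPt E ⊆ Set.range u := by
  intro e heA
  by_contra he
  have hker := u.ker_eq_bot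
  have hle : vanSheaf (Set.range u) (stableUnderGeneralization_range u) ≤ u.ker := by
    refine Scheme.IdealSheafData.le_ofIdeals_iff.mpr fun V t ht => ?_
    rw [RingHom.mem_ker]
    apply TopCat.Presheaf.section_ext X.sheaf
    intro x hx
    have hx' : u x ∈ V.1 := hx
    have h1 := germ_app u V.1 t x hx'
    rw [ht (u x) hx' ⟨x, rfl⟩, map_zero] at h1
    refine h1.trans ?_
    exact (map_zero (X.presheaf.germ (u ⁻¹ᵁ V.1) x hx').hom).symm
  rw [hker, le_bot_iff] at hle
  obtain ⟨V, hV, heV, -⟩ := exists_isAffineOpen_mem_and_subset (show e ∈ (⊤ : E.Opens) from trivial)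
  obtain ⟨t, ht⟩ := exists_section_of_mem_assPt hV e heV heA
  have ht0 : t = 0 := by
    have h1 : t ∈ (vanSheaf (Set.range u) (stableUnderGeneralization_range u)).ideal ⟨V, hV⟩ := by
      intro v hv hvr
      by_contra hne
      rw [germ_eq_zero_iff hV hv] at hne
      push Not at hne
      apply he
      refine stableUnderGeneralization_range u ?_ hvr
      have h2 : (hV.primeIdealOf ⟨e, heV⟩).asIdeal ≤ (hV.primeIdealOf ⟨v, hv⟩).asIdeal := by
        intro g hg
        by_contra hgv
        exact hne g hgv ((ht g).mpr hg)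
      have h3 := ((PrimeSpectrum.le_iff_specializes _ _).mp h2).map hV.fromSpec.continuous
      rw [hV.fromSpec_primeIdealOf ⟨v, hv⟩, hV.fromSpec_primeIdealOf ⟨e, heV⟩] at h3
      exact h3
    rw [hle] at h1
    simpa using h1
  have h4 : (1 : Γ(E, V)) ∈ (hV.primeIdealOf ⟨e, heV⟩).asIdeal := by
    rw [← ht, ht0, mul_zero]
  exact (hV.primeIdealOf ⟨e, heV⟩).isPrime.ne_top ((Ideal.eq_top_iff_one _).mpr h4)

/-- Criterion for scheme-theoretic dominance of flat morphisms. -/
theorem dominant_iff [IsLocallyNoetherian E] (u : X ⟶ E) [Flat u] :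
    IsSchemeTheoreticallyDominant u ↔ AssPt E ⊆ Set.range u :=
  ⟨fun _ => assPt_subset_range u, dominant_of_assPt_subset u⟩

end Dom

section Etale

variable {E S : Scheme.{u}}

/-- Associated points of an étale scheme are the points above associated points of the base. -/
theorem mem_assPt_iff_of_etale [IsLocallyNoetherian S] (g : E ⟶ S) [Etale g] (e : E) :
    e ∈ AssPt E ↔ g e ∈ AssPt S := by
  have hmax := Groth.Agent.Flat2F.FlatWeight.map_maximalIdeal_of_etale g e
  have hflat : (g.stalkMap e).hom.Flat := Flat.stalkMap g e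
  have hE : IsLocallyNoetherian E := LocallyOfFiniteType.isLocallyNoetherian g
  change IsAssociatedPrime _ _ ↔ IsAssociatedPrime _ _
  algebraize [(g.stalkMap e).hom]
  have : IsLocalHom (algebraMap (S.presheaf.stalk (g e)) (E.presheaf.stalk e)) :=
    inferInstanceAs <| IsLocalHom (g.stalkMap e).hom
  have h1 := Groth.Agent.Fdesc.AssFlatAlg.maximalIdeal_mem_associatedPrimes_tensor_iff
    (A := S.presheaf.stalk (g e)) (B := E.presheaf.stalk e) (E := S.presheaf.stalk (g e))
    (F := E.presheaf.stalk e)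
  rw [LinearEquiv.AssociatedPrimes.eq (TensorProduct.AlgebraTensorModule.rid
    (S.presheaf.stalk (g e)) (E.presheaf.stalk e) (E.presheaf.stalk e))] at h1
  have hmax' : (IsLocalRing.maximalIdeal (S.presheaf.stalk (g e))).map
      (algebraMap (S.presheaf.stalk (g e)) (E.presheaf.stalk e)) =
      IsLocalRing.maximalIdeal (E.presheaf.stalk e) := hmax
  rw [hmax'] at h1
  refine h1.trans ⟨fun h => h.1, fun h => ⟨h, ?_⟩⟩
  refine isAssociatedPrime_iff.mpr ⟨inferInstance, Submodule.Quotient.mk 1, ?_⟩
  ext b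
  rw [Submodule.mem_colon_singleton, Submodule.mem_bot, ← Submodule.Quotient.mk_smul,
    Submodule.Quotient.mk_eq_zero]
  simp only [smul_eq_mul, mul_one, Ideal.mul_top]

end Etale

end K991.DomCrit
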