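import Groth.Agent.EtHull.K991.MaxPt
import Groth.Agent.Ega4dB.SchDense
import Groth.Agent.S2787
import Groth.Agent.Ega43.FPOfComp
import Mathlib.Topology.NoetherianSpace
import Mathlib.AlgebraicGeometry.Morphisms.FlatMono
import Mathlib.AlgebraicGeometry.Morphisms.Etale

/-!
# Factorizations through étale affine schemes: closures of images

Over a Noetherian geometrically unibranch base without embedded points, the closure of the image of a
flat finitely presented scheme in an étale affine scheme is open and closed.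
-/

set_option autoImplicit false
universe u
open CategoryTheory CategoryTheory.Limits AlgebraicGeometry TopologicalSpace Opposite

namespace K991.Fact

open K991.DomCrit K991.MaxPt

section Top

variable {E : Type*} [TopologicalSpace E]

/-- In a Noetherian space whose irreducible components are pairwise disjoint, closures of open sets
are open. -/
theorem isOpen_closure [NoetherianSpace E]
    (huniq : ∀ (e : E) (Z Z' : Set E), Z ∈ irreducibleComponents E → Z' ∈ irreducibleComponents E →
      e ∈ Z → e ∈ Z' → Z = Z') {W : Set E} (hW : IsOpen W) : IsOpen (closure W) := by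
  have hfin : (irreducibleComponents E).Finite := NoetherianSpace.finite_irreducibleComponents
  have hcl : ∀ P : Set E → Prop, IsClosed (⋃₀ {Z ∈ irreducibleComponents E | P Z}) := by
    intro P
    rw [Set.sUnion_eq_biUnion]
    refine (hfin.subset (fun Z hZ => hZ.1)).isClosed_biUnion fun Z hZ => ?_
    exact isClosed_of_mem_irreducibleComponents Z hZ.1
  have hkey : closure W = (⋃₀ {Z ∈ irreducibleComponents E | Z ∩ W = ∅})ᶜ := by
    apply subset_antisymm
    · have hsub : closure W ⊆ ⋃₀ {Z ∈ irreducibleComponents E | (Z ∩ W).Nonempty} := by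
        apply closure_minimal _ (hcl _)
        intro w hw
        exact ⟨irreducibleComponent w, ⟨irreducibleComponent_mem_irreducibleComponents w,
          ⟨w, mem_irreducibleComponent, hw⟩⟩, mem_irreducibleComponent⟩
      rintro e he ⟨Z, ⟨hZ, hZW⟩, heZ⟩
      obtain ⟨Z', ⟨hZ', hZW'⟩, heZ'⟩ := hsub he
      rw [huniq e Z Z' hZ hZ' heZ heZ'] at hZW
      rw [hZW] at hZW'
      exact Set.not_nonempty_empty hZW'
    · intro e he
      have hne : (irreducibleComponent e ∩ W).Nonempty := by
        rw [Set.nonempty_iff_ne_empty]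
        intro h0
        exact he ⟨_, ⟨irreducibleComponent_mem_irreducibleComponents e, h0⟩,
          mem_irreducibleComponent⟩
      have h1 := subset_closure_inter_of_isPreirreducible_of_isOpen
        (isIrreducible_irreducibleComponent (x := e)).isPreirreducible hW hne
      exact closure_mono Set.inter_subset_right (h1 mem_irreducibleComponent)
  rw [hkey]
  exact (hcl _).isOpen_compl

/-- An open dense subset of a Noetherian sober space contains the maximal points. -/
theorem mem_of_isMaxPt [NoetherianSpace E] [QuasiSober E] [T0Space E] {W : Set E} (hW : IsOpen W)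
    (hd : Dense W) {x : E} (hx : IsMaxPt x) : x ∈ W := by
  have hfin : (irreducibleComponents E).Finite := NoetherianSpace.finite_irreducibleComponents
  -- the union of the irreducible components not containing `x`
  have hcl : IsClosed (⋃₀ {Z ∈ irreducibleComponents E | x ∉ Z}) := by
    rw [Set.sUnion_eq_biUnion]
    refine (hfin.subset (fun Z hZ => hZ.1)).isClosed_biUnion fun Z hZ => ?_
    exact isClosed_of_mem_irreducibleComponents Z hZ.1
  have hxm : x ∈ (⋃₀ {Z ∈ irreducibleComponents E | x ∉ Z})ᶜ := by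
    rintro ⟨Z, ⟨-, hZ⟩, hxZ⟩
    exact hZ hxZ
  obtain ⟨w, hw1, hw2⟩ := hd.inter_open_nonempty _ hcl.isOpen_compl ⟨x, hxm⟩
  have hxw : x ⤳ w := by
    by_contra hcon
    apply hw1
    refine ⟨irreducibleComponent w, ⟨irreducibleComponent_mem_irreducibleComponents w, ?_⟩,
      mem_irreducibleComponent⟩
    intro hxc
    apply hcon
    have hirr : IsIrreducible (irreducibleComponent w) := isIrreducible_irreducibleComponent
    obtain ⟨z, hz⟩ := QuasiSober.sober hirr isClosed_irreducibleComponent
    have h1 : z = x := hx z (hz.specializes hxc)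
    rw [← h1]
    exact hz.specializes mem_irreducibleComponent
  exact hxw.mem_open hW hw2

theorem finite_maxPts_of_isClosed [NoetherianSpace E] [QuasiSober E] {Z : Set E} (hZ : IsClosed Z) :
    {z ∈ Z | ∀ y ∈ Z, y ⤳ z → y = z}.Finite := by
  obtain ⟨S, hS, hScl, hSirr, hSZ⟩ := NoetherianSpace.exists_finite_set_isClosed_irreducible hZ
  rcases isEmpty_or_nonempty E with hE | hE
  · exact Set.toFinite _
  choose! t ht using fun T (hT : T ∈ S) => QuasiSober.sober (hSirr T hT) (hScl T hT)
  refine (hS.image t).subset ?_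
  rintro z ⟨hz, hmax⟩
  rw [hSZ] at hz
  obtain ⟨T, hT, hzT⟩ := hz
  refine ⟨T, hT, ?_⟩
  refine hmax _ ?_ ((ht T hT).specializes hzT)
  rw [hSZ]
  exact ⟨T, hT, (ht T hT).mem⟩

end Top

section Unibranch

variable {E S : Scheme.{u}}

theorem irreducibleComponents_disjoint (g : E ⟶ S) [Etale g]
    (hS : ∀ s : S, CAlg2.IsGeomUnibranch (S.presheaf.stalk s)) (e : E) (Z Z' : Set E)
    (hZ : Z ∈ irreducibleComponents E) (hZ' : Z' ∈ irreducibleComponents E) (he : e ∈ Z)
    (he' : e ∈ Z') : Z = Z' := by
  have h1 := Groth.Agent.S2787.isGeomUnibranch_stalk_of_etale g e (hS (g e))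
  obtain ⟨z, hz⟩ := Groth.Agent.S2787.exists_specializes_of_isDomain_red e h1.1.1
  have key : ∀ T : Set E, T ∈ irreducibleComponents E → e ∈ T → T = closure {z} := by
    intro T hT heT
    obtain ⟨t, ht⟩ := QuasiSober.sober hT.1 (isClosed_of_mem_irreducibleComponents T hT)
    have h2 : z ⤳ t := hz t (ht.specializes heT)
    have h3 : T ⊆ closure {z} := by
      rw [← ht.def]
      exact h2.closure_subset
    exact subset_antisymm h3 (hT.2 isIrreducible_singleton.closure h3)
  rw [key Z hZ he, key Z' hZ' he']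

theorem isOpen_closure_of_etale [IsNoetherian E] (g : E ⟶ S) [Etale g]
    (hS : ∀ s : S, CAlg2.IsGeomUnibranch (S.presheaf.stalk s)) {W : Set E} (hW : IsOpen W) :
    IsOpen (closure W) :=
  isOpen_closure (irreducibleComponents_disjoint g hS) hW

end Unibranch

section Etale

theorem locallyQuasiFinite_of_etale {U Y : Scheme.{u}} (f : U ⟶ Y) [Etale f] :
    LocallyQuasiFinite f where
  quasiFinite_appLE := by
    intro A hA B hB e
    have h := HasRingHomProperty.appLE @Etale f inferInstance ⟨A, hA⟩ ⟨B, hB⟩ e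
    algebraize [(f.appLE A B e).hom]
    have hE : Algebra.Etale Γ(Y, A) Γ(U, B) := h
    exact inferInstanceAs (Algebra.QuasiFinite Γ(Y, A) Γ(U, B))

/-- On the fibres of an étale morphism there are no nontrivial specializations. -/
theorem eq_of_specializes_of_etale {U Y : Scheme.{u}} (f : U ⟶ Y) [Etale f] {a b : U} (h : a ⤳ b)
    (hab : f a = f b) : a = b := by
  have h1 : LocallyQuasiFinite f := locallyQuasiFinite_of_etale f
  have h2 := f.isDiscrete_preimage_singleton (f b)
  have h3 : DiscreteTopology (f ⁻¹' {f b} : Set U) := h2.1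
  let a' : (f ⁻¹' {f b} : Set U) := ⟨a, hab⟩
  let b' : (f ⁻¹' {f b} : Set U) := ⟨b, rfl⟩
  have h4 : a' ⤳ b' := Topology.IsInducing.subtypeVal.specializes_iff.1 h
  exact congrArg Subtype.val h4.eq

end Etale

section Adm

variable {X S : Scheme.{u}}

/-- Admissible factorizations of `f`. -/
structure Adm (f : X ⟶ S) (E : Scheme.{u}) (g : E ⟶ S) (u : X ⟶ E) : Prop where
  etale : Etale g
  affine : IsAffineHom g
  dom : IsSchemeTheoreticallyDominant u
  w : u ≫ g = f

theorem isNoetherian_of_etale_affine [IsNoetherian S] {E : Scheme.{u}} (g : E ⟶ S)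
    [LocallyOfFiniteType g] [QuasiCompact g] : IsNoetherian E where
  toIsLocallyNoetherian := LocallyOfFiniteType.isLocallyNoetherian g
  toCompactSpace := QuasiCompact.compactSpace_of_compactSpace g

theorem quasiCompact_of_comp {X E S : Scheme.{u}} (u : X ⟶ E) (g : E ⟶ S) [QuasiSeparated g]
    (h : QuasiCompact (u ≫ g)) : QuasiCompact u :=
  MorphismProperty.of_postcomp (W := @QuasiCompact) (W' := @QuasiSeparated) u g inferInstance h

/-- A flat morphism with image dense and open, to an étale scheme over a base without embedded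
points, is scheme-theoretically dominant. -/
theorem dominant_of_dense [IsNoetherian S] (hemb : AssSch.NoEmbedded (Coh.structureModule S))
    {E : Scheme.{u}} [IsNoetherian E] (g : E ⟶ S) [Etale g] (u : X ⟶ E) [Flat u]
    (ho : IsOpen (Set.range u)) (hd : Dense (Set.range u)) : IsSchemeTheoreticallyDominant u := by
  apply dominant_of_assPt_subset
  intro e he
  apply mem_of_isMaxPt ho hd
  -- an associated point of `E` is maximal
  rw [mem_assPt_iff_of_etale g] at he
  have h1 := isMaxPt_of_noEmbedded hemb he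
  intro y hy
  have h2 : g y = g e := h1 _ (hy.map g.continuous)
  -- étale morphisms have discrete fibres
  exact eq_of_specializes_of_etale g hy h2

/-- The closure of the image of `X` in an étale affine `S`-scheme gives an admissible
factorization. -/
theorem exists_adm_closure [IsNoetherian S]
    (hS : ∀ s : S, CAlg2.IsGeomUnibranch (S.presheaf.stalk s))
    (hemb : AssSch.NoEmbedded (Coh.structureModule S))
    (f : X ⟶ S) [Flat f] [LocallyOfFinitePresentation f]
    {P : Scheme.{u}} (p : P ⟶ S) [Etale p] [IsAffineHom p] (uP : X ⟶ P) (h : uP ≫ p = f) :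
    ∃ (E : Scheme.{u}) (j : E ⟶ P) (u : X ⟶ E), IsOpenImmersion j ∧ IsClosedImmersion j ∧
      Set.range j = closure (Set.range uP) ∧ u ≫ j = uP ∧ Adm f E (j ≫ p) u := by
  have hNP : IsNoetherian P := isNoetherian_of_etale_affine p
  have hfl : Flat uP := flat_of_comp_etale uP p (by rw [h]; infer_instance)
  have hfp : LocallyOfFinitePresentation uP := by
    have : LocallyOfFinitePresentation (uP ≫ p) := by rw [h]; infer_instance
    exact Groth.Agent.Ega43.FPOfComp.locallyOfFinitePresentation_of_comp uP p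
  have ho : IsOpen (Set.range uP) := uP.isOpenMap.isOpen_range
  have hC : IsOpen (closure (Set.range uP)) := isOpen_closure_of_etale p hS ho
  let C : P.Opens := ⟨closure (Set.range uP), hC⟩
  have hrange : Set.range C.ι = closure (Set.range uP) := C.range_ι
  let u : X ⟶ C.toScheme := IsOpenImmersion.lift C.ι uP (by rw [hrange]; exact subset_closure)
  have hu : u ≫ C.ι = uP := IsOpenImmersion.lift_fac _ _ _
  have hcl : IsClosedImmersion C.ι := by
    apply IsClosedImmersion.of_isPreimmersion
    rw [hrange]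
    exact isClosed_closure
  have het : Etale (C.ι ≫ p) := inferInstance
  have hNE : IsNoetherian C.toScheme := isNoetherian_of_etale_affine (C.ι ≫ p)
  refine ⟨C.toScheme, C.ι, u, inferInstance, hcl, hrange, hu, het, inferInstance, ?_, ?_⟩
  · have hflu : Flat u := flat_of_comp_etale u (C.ι ≫ p) (by
      rw [← Category.assoc, hu, h]; infer_instance)
    have hfpu : LocallyOfFinitePresentation u := by
      have : LocallyOfFinitePresentation (u ≫ (C.ι ≫ p)) := by
        rw [← Category.assoc, hu, h]; infer_instance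
      exact Groth.Agent.Ega43.FPOfComp.locallyOfFinitePresentation_of_comp u (C.ι ≫ p)
    refine dominant_of_dense hemb (C.ι ≫ p) u u.isOpenMap.isOpen_range ?_
    -- density
    rw [dense_iff_closure_eq, Set.eq_univ_iff_forall]
    intro x
    rw [mem_closure_iff]
    intro O hO hxO
    have h1 : IsOpen (C.ι '' O) := C.ι.isOpenEmbedding.isOpenMap _ hO
    have h2 : C.ι x ∈ closure (Set.range uP) := by rw [← hrange]; exact ⟨x, rfl⟩
    obtain ⟨y, ⟨z, hz, hzy⟩, ⟨w, hw⟩⟩ := mem_closure_iff.1 h2 _ h1 ⟨x, hxO, rfl⟩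
    refine ⟨z, hz, w, ?_⟩
    apply C.ι.isOpenEmbedding.injective
    rw [hzy, ← hw, ← hu]
    rfl
  · rw [← Category.assoc, hu, h]

/-- Scheme-theoretically dominant quasi-compact morphisms have dense image. -/
theorem dense_range {X E : Scheme.{u}} (u : X ⟶ E) [IsSchemeTheoreticallyDominant u]
    [QuasiCompact u] : Dense (Set.range u) := by
  have : IsDominant u := inferInstance
  exact u.denseRange

/-- Lifting an admissible factorization mapping to `P` to the closure of the image. -/
theorem exists_lift_closure {P E E' : Scheme.{u}} (j : E ⟶ P) [IsOpenImmersion j] {uP : X ⟶ P}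
    (hj : Set.range j = closure (Set.range uP)) (u' : X ⟶ E') [IsSchemeTheoreticallyDominant u']
    [QuasiCompact u'] (w : E' ⟶ P) (hw : u' ≫ w = uP) : ∃ v : E' ⟶ E, v ≫ j = w := by
  refine ⟨IsOpenImmersion.lift j w ?_, IsOpenImmersion.lift_fac _ _ _⟩
  rw [hj]
  rintro _ ⟨x, rfl⟩
  have h1 : x ∈ closure (Set.range u') := dense_range u' x
  have h2 := map_mem_closure (t := Set.range uP) w.continuous h1 (by
    rintro _ ⟨y, rfl⟩
    exact ⟨y, by rw [← hw]; rfl⟩)
  exact h2

/-- Suprema of admissible factorizations. -/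
theorem exists_sup [IsNoetherian S]
    (hS : ∀ s : S, CAlg2.IsGeomUnibranch (S.presheaf.stalk s))
    (hemb : AssSch.NoEmbedded (Coh.structureModule S))
    (f : X ⟶ S) [Flat f] [LocallyOfFinitePresentation f] [hX : QuasiCompact f]
    {E₁ E₂ : Scheme.{u}} {g₁ : E₁ ⟶ S} {g₂ : E₂ ⟶ S} {u₁ : X ⟶ E₁} {u₂ : X ⟶ E₂}
    (a₁ : Adm f E₁ g₁ u₁) (a₂ : Adm f E₂ g₂ u₂) :
    ∃ (E : Scheme.{u}) (g : E ⟶ S) (u : X ⟶ E) (v₁ : E ⟶ E₁) (v₂ : E ⟶ E₂),
      Adm f E g u ∧ u ≫ v₁ = u₁ ∧ u ≫ v₂ = u₂ ∧ v₁ ≫ g₁ = g ∧ v₂ ≫ g₂ = g ∧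
      ∀ (E' : Scheme.{u}) (g' : E' ⟶ S) (u' : X ⟶ E') (w₁ : E' ⟶ E₁) (w₂ : E' ⟶ E₂),
        Adm f E' g' u' → u' ≫ w₁ = u₁ → u' ≫ w₂ = u₂ → w₁ ≫ g₁ = g' → w₂ ≫ g₂ = g' →
        ∃ w : E' ⟶ E, u' ≫ w = u ∧ w ≫ v₁ = w₁ ∧ w ≫ v₂ = w₂ := by
  have i1 := a₁.etale
  have i2 := a₂.etale
  have i3 := a₁.affine
  have i4 := a₂.affine
  let p : Limits.pullback g₁ g₂ ⟶ S := Limits.pullback.fst g₁ g₂ ≫ g₁
  let uP : X ⟶ Limits.pullback g₁ g₂ := Limits.pullback.lift u₁ u₂ (by rw [a₁.w, a₂.w])
  have hp : Etale p := inferInstance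
  have hp1 : IsAffineHom (Limits.pullback.fst g₁ g₂) := MorphismProperty.pullback_fst _ _ i4
  have hp' : IsAffineHom p := inferInstance
  have hup : uP ≫ p = f := by
    simp only [uP, p]
    rw [Limits.pullback.lift_fst_assoc, a₁.w]
  obtain ⟨E, j, u, hj1, hj2, hj3, huj, hadm⟩ := exists_adm_closure hS hemb f p uP hup
  refine ⟨E, j ≫ p, u, j ≫ Limits.pullback.fst g₁ g₂, j ≫ Limits.pullback.snd g₁ g₂, hadm,
    ?_, ?_, ?_, ?_, ?_⟩
  · rw [← Category.assoc, huj, Limits.pullback.lift_fst]
  · rw [← Category.assoc, huj, Limits.pullback.lift_snd]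
  · simp only [p, Category.assoc]
  · simp only [p, Category.assoc, Limits.pullback.condition]
  · intro E' g' u' w₁ w₂ a' e₁ e₂ k₁ k₂
    have ha := a'.affine
    have hd := a'.dom
    have hq' : QuasiCompact u' := quasiCompact_of_comp u' g' (by rw [a'.w]; exact hX)
    have hw : u' ≫ Limits.pullback.lift w₁ w₂ (by rw [k₁, k₂]) = uP := by
      apply Limits.pullback.hom_ext
      · rw [Category.assoc, Limits.pullback.lift_fst, e₁, Limits.pullback.lift_fst]
      · rw [Category.assoc, Limits.pullback.lift_snd, e₂, Limits.pullback.lift_snd]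
    obtain ⟨v, hv⟩ := exists_lift_closure j hj3 u' (Limits.pullback.lift w₁ w₂ (by rw [k₁, k₂])) hw
    have hj1' : Mono j := inferInstance
    refine ⟨v, ?_, ?_, ?_⟩
    · rw [← cancel_mono j, Category.assoc, hv, huj, hw]
    · rw [← Category.assoc, hv, Limits.pullback.lift_fst]
    · rw [← Category.assoc, hv, Limits.pullback.lift_snd]

end Adm

end K991.Fact
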