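import Groth.Agent.EtHull.K991.Diag
import Groth.Agent.EtHull.K991.Fact
import Groth.Agent.Sga3C.LocConn
import Mathlib.AlgebraicGeometry.AlgClosed.Basic
import Mathlib.Data.Fintype.Pigeonhole
import Mathlib.FieldTheory.IsAlgClosed.AlgebraicClosure

/-!
# Bounding the number of points of the image in geometric fibres
-/

set_option autoImplicit false
set_option linter.dupNamespace false
universe u
open CategoryTheory CategoryTheory.Limits AlgebraicGeometry TopologicalSpace Opposite

namespace K991.Few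

open K991.Diag K991.MaxPt

section Eq

variable {Y S C : Scheme.{u}} (b : Y ⟶ S) (g₁ g₂ : C ⟶ Y) (hg : g₁ ≫ b = g₂ ≫ b)

/-- The locus where two `S`-morphisms agree. -/
noncomputable abbrev eqLocus : Scheme.{u} := pullback (pullback.lift g₁ g₂ hg) (pullback.diagonal b)

/-- The inclusion of the locus where two `S`-morphisms agree. -/
noncomputable abbrev eqι : eqLocus b g₁ g₂ hg ⟶ C :=
  pullback.fst (pullback.lift g₁ g₂ hg) (pullback.diagonal b)

theorem eqι_w : eqι b g₁ g₂ hg ≫ g₁ = eqι b g₁ g₂ hg ≫ g₂ := by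
  have h1 := congrArg (fun z => z ≫ pullback.fst b b)
    (pullback.condition (f := pullback.lift g₁ g₂ hg) (g := pullback.diagonal b))
  have h2 := congrArg (fun z => z ≫ pullback.snd b b)
    (pullback.condition (f := pullback.lift g₁ g₂ hg) (g := pullback.diagonal b))
  simp only [Category.assoc, pullback.lift_fst, pullback.lift_snd, pullback.diagonal_fst,
    pullback.diagonal_snd] at h1 h2
  rw [h1, h2]

theorem exists_lift_eqι {T : Scheme.{u}} (t : T ⟶ C) (ht : t ≫ g₁ = t ≫ g₂) :
    ∃ v, v ≫ eqι b g₁ g₂ hg = t := by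
  refine ⟨pullback.lift t (t ≫ g₁) ?_, pullback.lift_fst _ _ _⟩
  apply pullback.hom_ext
  · simp only [Category.assoc, pullback.lift_fst, pullback.diagonal_fst, Category.comp_id]
  · simp only [Category.assoc, pullback.lift_snd, pullback.diagonal_snd, Category.comp_id, ht]

instance : Mono (eqι b g₁ g₂ hg) := inferInstance

instance : LocallyOfFiniteType (eqι b g₁ g₂ hg) := inferInstance

instance [IsSeparated b] : IsClosedImmersion (eqι b g₁ g₂ hg) := inferInstance

theorem isOpenImmersion_eqι [FormallyUnramified b] [IsLocallyNoetherian C] :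
    IsOpenImmersion (eqι b g₁ g₂ hg) :=
  isOpenImmersion_of_equalizes b g₁ g₂ hg _ (eqι_w b g₁ g₂ hg) (exists_lift_eqι b g₁ g₂ hg)

include hg in
/-- Two morphisms from a connected locally Noetherian scheme to a separated formally unramified
scheme which agree at a point are equal. -/
theorem eq_of_connected [FormallyUnramified b] [IsSeparated b] [IsLocallyNoetherian C]
    [PreconnectedSpace C] {Z : Scheme.{u}} [hZ : Nonempty Z] (ζ : Z ⟶ C)
    (hζ : ζ ≫ g₁ = ζ ≫ g₂) : g₁ = g₂ := by
  have h1 := isOpenImmersion_eqι b g₁ g₂ hg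
  obtain ⟨v, hv⟩ := exists_lift_eqι b g₁ g₂ hg ζ hζ
  have hcl : IsClopen (Set.range (eqι b g₁ g₂ hg)) :=
    ⟨(eqι b g₁ g₂ hg).isClosedEmbedding.isClosed_range, (eqι b g₁ g₂ hg).isOpenEmbedding.isOpen_range⟩
  obtain ⟨z⟩ := hZ
  have hne : (Set.range (eqι b g₁ g₂ hg)).Nonempty := ⟨_, v z, rfl⟩
  have huniv := hcl.eq_univ hne
  have hs : Surjective (eqι b g₁ g₂ hg) := ⟨Set.range_eq_univ.mp huniv⟩
  have hiso : IsIso (eqι b g₁ g₂ hg) := by
    rw [isIso_iff_isOpenImmersion_and_surjective]
    exact ⟨h1, hs⟩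
  rw [← cancel_epi (eqι b g₁ g₂ hg), eqι_w]

end Eq

theorem exists_point {C : Scheme.{u}} {K : Type u} [Field K] [IsAlgClosed K]
    (f : C ⟶ Spec (CommRingCat.of K)) [LocallyOfFiniteType f] [CompactSpace C] [hC : Nonempty C] :
    ∃ ζ : Spec (CommRingCat.of K) ⟶ C, ζ ≫ f = 𝟙 _ := by
  obtain ⟨x, -, hx⟩ := IsClosed.exists_closed_singleton (isClosed_univ (X := C)) Set.univ_nonempty
  exact ⟨pointOfClosedPoint f x hx, pointOfClosedPoint_comp f x hx⟩

/-- Among `n + 1` geometric points of `X` over the same maximal geometric point of `S`, two have the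
same image in `Y`. -/
def Few {X Y S : Scheme.{u}} (a : X ⟶ S) (h : X ⟶ Y) (n : ℕ) : Prop :=
  ∀ (L : Type u) [Field L] [IsAlgClosed L] (s : Spec (CommRingCat.of L) ⟶ S)
    (x : Fin (n + 1) → (Spec (CommRingCat.of L) ⟶ X)),
    (∀ i, x i ≫ a = s) → (∀ z, IsMaxPt (s z)) → ∃ i j, i ≠ j ∧ x i ≫ h = x j ≫ h

theorem Few.mono {X Y S : Scheme.{u}} {a : X ⟶ S} {h : X ⟶ Y} {n m : ℕ} (H : Few a h n)
    (hnm : n ≤ m) : Few a h m := by
  intro L _ _ s x hx hs
  obtain ⟨i, j, hij, hxy⟩ := H L s (fun i => x (Fin.castLE (by omega) i)) (fun i => hx _) hs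
  exact ⟨Fin.castLE (by omega) i, Fin.castLE (by omega) j,
    fun h => hij (Fin.castLE_injective _ h), hxy⟩

/-- The bound at one point. -/
theorem exists_bound {X Y S : Scheme.{u}} (a : X ⟶ S) [LocallyOfFiniteType a] [QuasiCompact a]
    (b : Y ⟶ S) [FormallyUnramified b] [IsSeparated b] (h : X ⟶ Y) (w : h ≫ b = a) (s₀ : S) :
    ∃ n : ℕ, ∀ m : ℕ, n ≤ m → ∀ (L : Type u) [Field L] [IsAlgClosed L]
      (s : Spec (CommRingCat.of L) ⟶ S) (x : Fin (m + 1) → (Spec (CommRingCat.of L) ⟶ X)),
      (∀ i, x i ≫ a = s) → (∀ z, s z = s₀) → ∃ i j, i ≠ j ∧ x i ≫ h = x j ≫ h := by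
  let K : Type u := AlgebraicClosure (S.residueField s₀)
  let σ : Spec (CommRingCat.of K) ⟶ S :=
    Spec.map (CommRingCat.ofHom (algebraMap (S.residueField s₀) K)) ≫ S.fromSpecResidueField s₀
  let XK := pullback a σ
  let π : XK ⟶ Spec (CommRingCat.of K) := pullback.snd a σ
  have hπ : LocallyOfFiniteType π := inferInstance
  have hN : IsNoetherian XK :=
    { toIsLocallyNoetherian := LocallyOfFiniteType.isLocallyNoetherian π
      toCompactSpace := QuasiCompact.compactSpace_of_compactSpace π }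
  have hlc : LocallyConnectedSpace XK :=
    Groth.Agent.Sga3C.LocConn.locallyConnectedSpace_of_isLocallyNoetherian XK
  have hfin : Finite (ConnectedComponents XK) := inferInstance
  let := Fintype.ofFinite (ConnectedComponents XK)
  refine ⟨Fintype.card (ConnectedComponents XK), fun m hm L _ _ s x hx hs => ?_⟩
  -- the extension `K → L`
  obtain ⟨z₀⟩ : Nonempty (Spec (CommRingCat.of L)) := inferInstance
  let ps := Scheme.SpecToEquivOfField L S s
  have hps : Spec.map ps.2 ≫ S.fromSpecResidueField ps.1 = s :=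
    (Scheme.SpecToEquivOfField L S).symm_apply_apply s
  obtain ⟨p, φ⟩ := ps
  have hp : p = s₀ := by
    rw [← hs z₀, ← hps]
    simp
  subst hp
  have hps' : Spec.map φ ≫ S.fromSpecResidueField p = s := hps
  let : Algebra (S.residueField p) L := φ.hom.toAlgebra
  let τ : K →ₐ[S.residueField p] L := IsAlgClosed.lift
  have hτ : Spec.map (CommRingCat.ofHom τ.toRingHom) ≫ σ = s := by
    rw [← hps']
    simp only [σ]
    rw [← Category.assoc, ← Spec.map_comp]
    congr 2
    ext r
    exact τ.commutes r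
  -- the lifts of the points
  let t : Fin (m + 1) → (Spec (CommRingCat.of L) ⟶ XK) := fun i =>
    pullback.lift (x i) (Spec.map (CommRingCat.ofHom τ.toRingHom)) (by rw [hx, hτ])
  obtain ⟨i, j, hij, hc⟩ := Fintype.exists_ne_map_eq_of_card_lt
    (fun i : Fin (m + 1) => (t i z₀ : ConnectedComponents XK)) (by simpa using Nat.lt_succ_of_le hm)
  refine ⟨i, j, hij, ?_⟩
  -- the connected component
  let O : XK.Opens := ⟨connectedComponent (t i z₀), isOpen_connectedComponent⟩
  have hi : t i z₀ ∈ O := mem_connectedComponent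
  have hj : t j z₀ ∈ O := by
    change t j z₀ ∈ connectedComponent (t i z₀)
    rw [ConnectedComponents.coe_eq_coe'] at hc
    rw [← connectedComponent_eq hc]
    exact mem_connectedComponent
  have hOc : CompactSpace O.toScheme := by
    have : NoetherianSpace XK := inferInstance
    exact isCompact_iff_compactSpace.mp (NoetherianSpace.isCompact _)
  have hOn : Nonempty O.toScheme := ⟨⟨_, hi⟩⟩
  have hOconn : PreconnectedSpace O.toScheme :=
    Subtype.preconnectedSpace (isPreconnected_connectedComponent)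
  have hOl : IsLocallyNoetherian O.toScheme := inferInstance
  obtain ⟨ζ, hζ⟩ := exists_point (O.ι ≫ π)
  let g₁ : O.toScheme ⟶ Y := O.ι ≫ pullback.fst a σ ≫ h
  let g₂ : O.toScheme ⟶ Y := (O.ι ≫ π) ≫ ζ ≫ O.ι ≫ pullback.fst a σ ≫ h
  have hg : g₁ ≫ b = g₂ ≫ b := by
    simp only [g₁, g₂, Category.assoc, w]
    rw [pullback.condition]
    have h1 : ζ ≫ O.ι ≫ pullback.snd a σ = 𝟙 _ := hζ
    rw [← Category.assoc O.ι, ← Category.assoc ζ, h1, Category.id_comp, Category.assoc]
  have hgg : g₁ = g₂ := by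
    refine eq_of_connected b g₁ g₂ hg ζ ?_
    simp only [g₁, g₂, ← Category.assoc]
    rw [show (ζ ≫ O.ι) ≫ π = 𝟙 _ by rw [Category.assoc]; exact hζ, Category.id_comp]
  have key : ∀ k, t k z₀ ∈ O → x k ≫ h = Spec.map (CommRingCat.ofHom τ.toRingHom) ≫
      ζ ≫ O.ι ≫ pullback.fst a σ ≫ h := by
    intro k hk
    have hrange : Set.range (t k) ⊆ Set.range O.ι := by
      rw [Scheme.Opens.range_ι]
      rintro _ ⟨z, rfl⟩
      rw [Subsingleton.elim z z₀]
      exact hk
    let l := IsOpenImmersion.lift O.ι (t k) hrange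
    have hl : l ≫ O.ι = t k := IsOpenImmersion.lift_fac _ _ _
    have e1 : x k ≫ h = l ≫ g₁ := by
      simp only [g₁]
      rw [← Category.assoc, hl, ← Category.assoc, pullback.lift_fst]
    rw [e1, hgg]
    simp only [g₂]
    rw [← Category.assoc, ← Category.assoc l, hl, pullback.lift_snd]
  rw [key i hi, key j hj]

/-- The number of points of the image in geometric fibres is bounded. -/
theorem exists_few {X Y S : Scheme.{u}} [IsNoetherian S] (a : X ⟶ S) [LocallyOfFiniteType a]
    [QuasiCompact a] (b : Y ⟶ S) [FormallyUnramified b] [IsSeparated b] (h : X ⟶ Y)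
    (w : h ≫ b = a) : ∃ n, Few a h n := by
  have hfin : {s : S | IsMaxPt s}.Finite := by
    refine (Fact.finite_maxPts_of_isClosed (isClosed_univ (X := S))).subset ?_
    intro s hs
    exact ⟨trivial, fun y _ hy => hs y hy⟩
  choose N hN using fun s₀ : S => exists_bound a b h w s₀
  refine ⟨∑ s ∈ hfin.toFinset, N s, ?_⟩
  intro L _ _ s x hx hs
  obtain ⟨z₀⟩ : Nonempty (Spec (CommRingCat.of L)) := inferInstance
  refine hN (s z₀) _ ?_ L s x hx (fun z => by rw [Subsingleton.elim z z₀])
  exact Finset.single_le_sum (f := N) (fun _ _ => Nat.zero_le _) (hfin.mem_toFinset.mpr (hs z₀))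

end K991.Few
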