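import Groth.Agent.EtHull.K991.Glue
import Mathlib.AlgebraicGeometry.Morphisms.Etale

/-!
# Flat images: final properties
-/

set_option autoImplicit false
universe u
open CategoryTheory CategoryTheory.Limits AlgebraicGeometry TopologicalSpace Opposite

namespace K991.Final

open K991.Im Groth.Agent.Flat2H.FSLift

variable {X Y S E : Scheme.{u}}

theorem affLocFS_of_etale (g : E ⟶ S) [Etale g] : AffLocFS g := by
  intro U V hU hV hUV
  have h : RingHom.Etale (g.appLE V U hUV).hom :=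
    HasRingHomProperty.appLE @Etale g inferInstance ⟨V, hV⟩ ⟨U, hU⟩ hUV
  algebraize [(g.appLE V U hUV).hom]
  have hE : Algebra.Etale Γ(S, V) Γ(E, U) := h
  exact inferInstanceAs (Algebra.FormallySmooth Γ(S, V) Γ(E, U))

/-- A morphism from an étale scheme to a formally unramified scheme is formally étale. -/
theorem affLocFS_of_comp (m : E ⟶ Y) (b : Y ⟶ S) [FormallyUnramified b] [Etale (m ≫ b)] :
    AffLocFS m := by
  refine affLocFS_of_lift m fun A _ I hI a c hac => ?_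
  have hcl : IsClosedImmersion (Spec.map (CommRingCat.ofHom (Ideal.Quotient.mk I))) :=
    IsClosedImmersion.spec_of_surjective _ Ideal.Quotient.mk_surjective
  have hs := surjective_SpecMap_mk A I hI
  have hnil := isNilpotent_ker_SpecMap_mk A I hI
  obtain ⟨l, ⟨hl1, hl2⟩, -⟩ := existsUnique_lift (m ≫ b) (affLocFS_of_etale (m ≫ b))
    (Spec.map (CommRingCat.ofHom (Ideal.Quotient.mk I))) hnil a (c ≫ b) (by
      rw [← Category.assoc, hac, Category.assoc])
  refine ⟨l, hl1, ?_⟩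
  refine FormallyUnramified.hom_ext _ hnil b ?_ ?_
  · rw [← Category.assoc, hl1, hac]
  · rw [Category.assoc, hl2]

theorem formallyEtale_appLE (m : E ⟶ Y) (b : Y ⟶ S) [FormallyUnramified b] [Etale (m ≫ b)]
    (V : Y.Opens) (hV : IsAffineOpen V) (U : E.Opens) (hU : IsAffineOpen U) (e : U ≤ m ⁻¹ᵁ V) :
    (m.appLE V U e).hom.FormallyEtale := by
  have h1 := affLocFS_of_comp m b U V hU hV e
  have hu : FormallyUnramified m := FormallyUnramified.of_comp m b
  have h2 := m.formallyUnramified_appLE hV hU e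
  algebraize [(m.appLE V U e).hom]
  exact Algebra.FormallyEtale.iff_formallyUnramified_and_formallySmooth.mpr ⟨h2, h1⟩

/-- Uniqueness of flat images. -/
theorem existsUnique_map {h : X ⟶ Y} {E' : Scheme.{u}} {u : X ⟶ E} {m : E ⟶ Y} {u' : X ⟶ E'}
    {m' : E' ⟶ Y} (hflat : Flat u) (hsurj : Surjective u) (hqc : QuasiCompact u) (hm' : Mono m')
    (w : u ≫ m = h) (w' : u' ≫ m' = h) : ∃! i : E ⟶ E', u ≫ i = u' ∧ i ≫ m' = m := by
  obtain ⟨v, hv⟩ := exists_lift_of_cov m' u m u' (by rw [w, w'])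
  refine ⟨v, ⟨?_, hv⟩, ?_⟩
  · rw [← cancel_mono m', Category.assoc, hv, w, w']
  · rintro v' ⟨-, hv'⟩
    rw [← cancel_mono m', hv, hv']

/-- Existence of flat images. -/
theorem exists_factorization [IsNoetherian S] (a : X ⟶ S) [Flat a]
    [LocallyOfFinitePresentation a] [QuasiCompact a] (b : Y ⟶ S) [FormallyUnramified b] (h : X ⟶ Y)
    (w : h ≫ b = a) :
    ∃ (E : Scheme.{u}) (u : X ⟶ E) (m : E ⟶ Y), Etale (m ≫ b) ∧
      Flat u ∧ Surjective u ∧ LocallyOfFinitePresentation u ∧ QuasiCompact u ∧ QuasiSeparated u ∧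
      Mono m ∧ LocallyOfFiniteType m ∧ QuasiCompact m ∧
      (∀ (V : Y.Opens), IsAffineOpen V → ∀ (U : E.Opens), IsAffineOpen U →
        ∀ (e : U ≤ m ⁻¹ᵁ V), (m.appLE V U e).hom.FormallyEtale) ∧
      u ≫ m = h ∧ IsNoetherian E := by
  obtain ⟨E, m, hrep, het⟩ := Glue.exists_rep a b w
  obtain ⟨u, I⟩ := hrep.isIm (Main.img_self a b h w)
  have hX : IsNoetherian X := MaxLemma.isNoetherian_of_ft a
  obtain ⟨hs, hf, hq, hl⟩ := (cov_iff _).mp I.cov
  have hEl : IsLocallyNoetherian E := LocallyOfFiniteType.isLocallyNoetherian (m ≫ b)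
  have hEc : CompactSpace E := ⟨by
    rw [← Set.range_eq_univ.mpr hs.surj]
    exact isCompact_range u.continuous⟩
  have hE : IsNoetherian E := { }
  have hlft : LocallyOfFiniteType (m ≫ b) := inferInstance
  refine ⟨E, u, m, het, hf, hs, hl, hq, inferInstance, I.mono, locallyOfFiniteType_of_comp m b,
    inferInstance, fun V hV U hU e => formallyEtale_appLE m b V hV U hU e, I.w, hE⟩

/-- An initial étale scheme is initial among formally unramified schemes. -/
theorem initial_of_initial {P : Scheme.{u}} [IsNoetherian S]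
    (a : X ⟶ S) [Flat a] [LocallyOfFinitePresentation a] [QuasiCompact a]
    (c : P ⟶ S) [Etale c] [QuasiCompact c] [QuasiSeparated c]
    (ϖ : X ⟶ P) (hϖ : ϖ ≫ c = a)
    (hinit : ∀ (E : Scheme.{u}) (e : E ⟶ S), Etale e → QuasiCompact e → QuasiSeparated e →
      ∀ k : X ⟶ E, k ≫ e = a → ∃! l : P ⟶ E, ϖ ≫ l = k ∧ l ≫ e = c)
    (Y : Scheme.{u}) (b : Y ⟶ S) [FormallyUnramified b] (k : X ⟶ Y) (hk : k ≫ b = a) :
    ∃! l : P ⟶ Y, ϖ ≫ l = k ∧ l ≫ b = c := by
  have hP : IsNoetherian P := MaxLemma.isNoetherian_of_ft c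
  obtain ⟨E, u, m, het, -, -, -, -, -, -, -, -, -, huw, hE⟩ := exists_factorization a b k hk
  have hqc : QuasiCompact (m ≫ b) := quasiCompact_of_noetherianSpace_source _
  have hqs : QuasiSeparated (m ≫ b) := inferInstance
  obtain ⟨l₀, ⟨hl1, hl2⟩, -⟩ := hinit E (m ≫ b) het hqc hqs u (by rw [← Category.assoc, huw, hk])
  refine ⟨l₀ ≫ m, ⟨by rw [← Category.assoc, hl1, huw], by rw [Category.assoc, hl2]⟩, ?_⟩
  rintro l' ⟨h1, h2⟩
  have h3 : ϖ ≫ l₀ ≫ m = k := by rw [← Category.assoc, hl1, huw]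
  have h4 : (l₀ ≫ m) ≫ b = c := by rw [Category.assoc, hl2]
  generalize l₀ ≫ m = l at h3 h4
  obtain ⟨Z, j, hj1, hj2, hj3, hj4⟩ : ∃ (Z : Scheme.{u}) (j : Z ⟶ P), IsOpenImmersion j ∧
      QuasiCompact j ∧ j ≫ l' = j ≫ l ∧
      ∀ {T : Scheme.{u}} (t : T ⟶ P), t ≫ l' = t ≫ l → ∃ v, v ≫ j = t := by
    have hlb : l' ≫ b = l ≫ b := by rw [h2, h4]
    have hj := Few.isOpenImmersion_eqι b l' l hlb
    exact ⟨_, Few.eqι b l' l hlb, hj, Main.qc_of_openImm _, Few.eqι_w b l' l hlb,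
      Few.exists_lift_eqι b l' l hlb⟩
  obtain ⟨v, hv⟩ := hj4 ϖ (by rw [h1, h3])
  have q1 : Etale (j ≫ c) := inferInstance
  have q2 : QuasiCompact (j ≫ c) := MorphismProperty.comp_mem _ _ _ hj2 ‹_›
  have q3 : QuasiSeparated (j ≫ c) := inferInstance
  obtain ⟨r, ⟨hr1, hr2⟩, -⟩ := hinit Z (j ≫ c) q1 q2 q3 v (by rw [← Category.assoc, hv, hϖ])
  have hid : r ≫ j = 𝟙 P := by
    apply (hinit P c inferInstance inferInstance inferInstance ϖ hϖ).unique
    · exact ⟨by rw [← Category.assoc, hr1, hv], by rw [Category.assoc, hr2]⟩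
    · exact ⟨Category.comp_id _, Category.id_comp _⟩
  rw [← Category.id_comp l', ← Category.id_comp l, ← hid, Category.assoc, hj3, Category.assoc]

end K991.Final
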