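import Groth.Prelude.Def_Frob
import Groth.Agent.S14930
import Groth.Agent.Flat2H.FSLift
import Mathlib.AlgebraicGeometry.Morphisms.FlatMono
import Mathlib.AlgebraicGeometry.Morphisms.IsIso
import Mathlib.AlgebraicGeometry.Morphisms.Etale
import Mathlib.AlgebraicGeometry.Morphisms.FormallyUnramified

/-!
# Relatively perfect morphisms are formally unramified, étale morphisms are relatively perfect
-/

set_option autoImplicit false
universe u
open CategoryTheory CategoryTheory.Limits AlgebraicGeometry TopologicalSpace Opposite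

namespace K991.FrobUnr

open FrobSch

theorem specMap_appTop {R T : CommRingCat.{u}} (φ : R ⟶ T) :
    (Spec.map φ).appTop = (Scheme.ΓSpecIso R).hom ≫ φ ≫ (Scheme.ΓSpecIso T).inv := by
  rw [Scheme.ΓSpecIso_inv_naturality, Iso.hom_inv_id_assoc]

theorem frob_spec (R : CommRingCat.{u}) (p : ℕ) [Fact p.Prime] [IsCharP (Spec R) p]
    (h : (p : R) = 0) : frob (Spec R) p = Spec.map (CommRingCat.ofHom (powHom p R h)) := by
  apply ext_of_isAffine
  rw [specMap_appTop]
  ext s
  change s ^ p = (Scheme.ΓSpecIso R).inv.hom (((Scheme.ΓSpecIso R).hom.hom s) ^ p)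
  rw [map_pow]
  have h2 : (Scheme.ΓSpecIso R).inv.hom ((Scheme.ΓSpecIso R).hom.hom s) = s := by
    change ((Scheme.ΓSpecIso R).hom ≫ (Scheme.ΓSpecIso R).inv).hom s = s
    rw [Iso.hom_inv_id]
    rfl
  rw [h2]

theorem natCast_eq_zero_of_isCharP (R : CommRingCat.{u}) (p : ℕ) [IsCharP (Spec R) p] :
    (p : R) = 0 := by
  have h := IsCharP.natCast_eq_zero (X := Spec R) (p := p)
  have h1 := congrArg (Scheme.ΓSpecIso R).hom.hom h
  rw [map_natCast, map_zero] at h1
  exact h1

/-- If the relative Frobenius is a monomorphism then the morphism is formally unramified. -/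
theorem formallyUnramified_of_mono_relFrob {Y S : Scheme.{u}} (p : ℕ) [Fact p.Prime]
    [IsCharP S p] (b : Y ⟶ S) [Mono (relFrob b p)] : FormallyUnramified b := by
  have hY : IsCharP Y p := IsCharP.of_hom b p
  apply FormallyUnramified.of_hom_ext
  intro R S' φ hφ hker g₁ g₂ hg hgb
  have hR : IsCharP (Spec R) p := IsCharP.of_hom g₁ p
  have hp : (p : R) = 0 := natCast_eq_zero_of_isCharP R p
  -- Frobenius factors through the thickening
  have hle : RingHom.ker φ.hom ≤ RingHom.ker (powHom p R hp) := by
    intro x hx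
    rw [RingHom.mem_ker, powHom_apply]
    have h2 : x ^ 2 = 0 := by
      have : x ^ 2 ∈ (RingHom.ker φ.hom) ^ 2 := Ideal.pow_mem_pow hx 2
      rw [hker] at this
      exact this
    exact pow_eq_zero_of_le (Fact.out : p.Prime).two_le h2
  let τ : S' →+* R := RingHom.liftOfSurjective φ.hom hφ ⟨powHom p R hp, hle⟩
  have hτ : τ.comp φ.hom = powHom p R hp :=
    RingHom.liftOfRightInverse_comp _ _ _ _
  have hfrob : frob (Spec R) p = Spec.map (CommRingCat.ofHom τ) ≫ Spec.map φ := by
    rw [frob_spec R p hp, ← Spec.map_comp]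
    congr 1
    ext x
    exact (congrArg (fun f : R →+* R => f x) hτ).symm
  have key : g₁ ≫ frob Y p = g₂ ≫ frob Y p := by
    rw [← frob_comp, ← frob_comp, hfrob, Category.assoc, Category.assoc, hg]
  rw [← cancel_mono (relFrob b p)]
  apply pullback.hom_ext
  · rw [Category.assoc, Category.assoc, relFrob_fst, key]
  · rw [Category.assoc, Category.assoc, relFrob_snd, hgb]

/-- The relative Frobenius of an étale morphism is an isomorphism. -/
theorem isIso_relFrob {P S : Scheme.{u}} (p : ℕ) [Fact p.Prime] [IsCharP S p] (c : P ⟶ S)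
    [Etale c] : IsIso (relFrob c p) := by
  obtain ⟨h1, h2, -⟩ := Groth.Agent.S14930.result p c
  have hsnd : Etale (pullback.snd c (frob S p)) := inferInstance
  have het : Etale (relFrob c p) := by
    have : Etale (relFrob c p ≫ pullback.snd c (frob S p)) := by rw [relFrob_snd]; infer_instance
    exact Etale.of_comp (relFrob c p) (pullback.snd c (frob S p))
  have hsurj : Surjective (relFrob c p) := by
    have h3 := MorphismProperty.universally_le _ _ h1
    exact ⟨h3.surjective⟩
  have hfst : IsHomeomorph (pullback.fst (relFrob c p) (relFrob c p)) :=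
    h1 _ _ _ (IsPullback.of_hasPullback (relFrob c p) (relFrob c p))
  have hmono : Mono (relFrob c p) := by
    rw [← pullback.isIso_diagonal_iff, isIso_iff_isOpenImmersion_and_surjective]
    refine ⟨inferInstance, ⟨fun x => ?_⟩⟩
    refine ⟨pullback.fst (relFrob c p) (relFrob c p) x, ?_⟩
    apply hfst.injective
    change (pullback.diagonal (relFrob c p) ≫ pullback.fst _ _) _ = _
    rw [pullback.diagonal_fst]
    rfl
  rw [isIso_iff_isOpenImmersion_and_surjective]
  exact ⟨IsOpenImmersion.of_flat_of_mono _, hsurj⟩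

end K991.FrobUnr
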