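import Groth.Agent.EtHull.K991.Main
import Mathlib.AlgebraicGeometry.RelativeGluing

/-!
# Gluing flat images
-/

set_option autoImplicit false
universe u
open CategoryTheory CategoryTheory.Limits AlgebraicGeometry TopologicalSpace Opposite

namespace K991.Glue

open K991.Im

variable {X Y S : Scheme.{u}} {h : X ⟶ Y} (𝒰 : Y.OpenCover) [Category 𝒰.I₀]
  [𝒰.LocallyDirected] {E : 𝒰.I₀ → Scheme.{u}} (m : ∀ i, E i ⟶ 𝒰.X i)

/-- Local data for gluing flat images. -/
structure Loc (h : X ⟶ Y) (m : ∀ i, E i ⟶ 𝒰.X i) : Prop where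
  mono : ∀ i, Mono (m i)
  iff : ∀ i {T : Scheme.{u}} (y : T ⟶ 𝒰.X i), (∃ v, v ≫ m i = y) ↔ Img h (y ≫ 𝒰.f i)

variable {𝒰 m}

theorem Loc.exists_map (H : Loc 𝒰 h m) {i j : 𝒰.I₀} (f : i ⟶ j) :
    ∃ v : E i ⟶ E j, v ≫ m j = m i ≫ 𝒰.trans f := by
  rw [H.iff, Category.assoc, Scheme.Cover.trans_map, ← H.iff]
  exact ⟨𝟙 _, Category.id_comp _⟩

theorem isPullback_aux {A B P Q : Scheme.{u}} {F : A ⟶ B} {mi : A ⟶ P} {mj : B ⟶ Q} {t : P ⟶ Q}
    [Mono mi] [Mono mj] (hf : F ≫ mj = mi ≫ t)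
    (hex : ∀ {T : Scheme.{u}} (p : T ⟶ B) (q : T ⟶ P), p ≫ mj = q ≫ t → ∃ v : T ⟶ A, v ≫ mi = q) :
    IsPullback F mi mj t := by
  refine ⟨⟨hf⟩, ⟨PullbackCone.IsLimit.mk _ (fun s => (hex s.fst s.snd s.condition).choose) ?_ ?_ ?_⟩⟩
  · intro s
    rw [← cancel_mono mj, Category.assoc, hf, ← Category.assoc,
      (hex s.fst s.snd s.condition).choose_spec, s.condition]
  · intro s
    exact (hex s.fst s.snd s.condition).choose_spec
  · intro s m' _ h2
    rw [← cancel_mono mi, (hex s.fst s.snd s.condition).choose_spec]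
    exact h2

/-- The functor of local flat images. -/
noncomputable def func (H : Loc 𝒰 h m) : 𝒰.I₀ ⥤ Scheme.{u} where
  obj := E
  map f := (H.exists_map f).choose
  map_id i := by
    have := H.mono i
    rw [← cancel_mono (m i), (H.exists_map (𝟙 i)).choose_spec, Category.id_comp,
      Scheme.Cover.trans_id, Category.comp_id]
  map_comp {i j k} f g := by
    have := H.mono k
    rw [← cancel_mono (m k), (H.exists_map (f ≫ g)).choose_spec, Category.assoc,
      (H.exists_map g).choose_spec, ← Category.assoc, (H.exists_map f).choose_spec,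
      Category.assoc, Scheme.Cover.trans_comp]

/-- The relative gluing data. -/
noncomputable def data (H : Loc 𝒰 h m) : 𝒰.RelativeGluingData where
  functor := func H
  natTrans :=
    { app := m
      naturality := fun i j f => (H.exists_map f).choose_spec }
  equifibered := fun i j f => by
    have hi := H.mono i
    have hj := H.mono j
    refine isPullback_aux (mi := m i) (mj := m j) (t := 𝒰.trans f) (H.exists_map f).choose_spec ?_
    intro T p q hpq
    rw [H.iff, ← Scheme.Cover.trans_map 𝒰 f, ← Category.assoc, ← hpq]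
    exact (H.iff j _).mp ⟨p, rfl⟩

/-- Gluing of local flat images. -/
theorem exists_rep_of_loc [Small.{u} 𝒰.I₀] [Quiver.IsThin 𝒰.I₀] (H : Loc 𝒰 h m) (b : Y ⟶ S)
    (het : ∀ i, Etale (m i ≫ 𝒰.f i ≫ b)) :
    ∃ (E : Scheme.{u}) (n : E ⟶ Y), Rep h n ∧ Etale (n ≫ b) := by
  let d := data H
  have hpb : ∀ i, IsPullback (m i) (colimit.ι d.functor i) (𝒰.f i) d.toBase :=
    fun i => d.isPullback_natTrans_ι_toBase i
  -- lifting morphisms locally
  have hlift : ∀ {T : Scheme.{u}} (v : T ⟶ d.glued) (i : 𝒰.I₀),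
      ∃ z : pullback (v ≫ d.toBase) (𝒰.f i) ⟶ E i, z ≫ m i = pullback.snd _ _ ∧
        z ≫ colimit.ι d.functor i = pullback.fst _ _ ≫ v := by
    intro T v i
    have hc : pullback.snd (v ≫ d.toBase) (𝒰.f i) ≫ 𝒰.f i =
        (pullback.fst (v ≫ d.toBase) (𝒰.f i) ≫ v) ≫ d.toBase := by
      rw [Category.assoc, pullback.condition]
    exact ⟨(hpb i).lift _ _ hc, (hpb i).lift_fst _ _ hc, (hpb i).lift_snd _ _ hc⟩
  have hmono : Mono d.toBase := by
    refine ⟨fun {T} v w hvw => ?_⟩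
    refine Scheme.Cover.hom_ext (𝒰.pullback₁ (v ≫ d.toBase)) _ _ fun i => ?_
    change pullback.fst (v ≫ d.toBase) (𝒰.f i) ≫ v = pullback.fst (v ≫ d.toBase) (𝒰.f i) ≫ w
    have hi := H.mono i
    have hc1 : pullback.snd (v ≫ d.toBase) (𝒰.f i) ≫ 𝒰.f i =
        (pullback.fst (v ≫ d.toBase) (𝒰.f i) ≫ v) ≫ d.toBase := by
      rw [Category.assoc, pullback.condition]
    have hc2 : pullback.snd (v ≫ d.toBase) (𝒰.f i) ≫ 𝒰.f i =
        (pullback.fst (v ≫ d.toBase) (𝒰.f i) ≫ w) ≫ d.toBase := by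
      rw [Category.assoc, ← hvw, pullback.condition]
    have e : (hpb i).lift _ _ hc1 = (hpb i).lift _ _ hc2 := by
      rw [← cancel_mono (m i), (hpb i).lift_fst, (hpb i).lift_fst]
    rw [← (hpb i).lift_snd _ _ hc1, ← (hpb i).lift_snd _ _ hc2, e]
  refine ⟨d.glued, d.toBase, ⟨hmono, ?_⟩, ?_⟩
  · intro T y
    constructor
    · rintro ⟨v, rfl⟩
      refine img_of_openCover (𝒰.pullback₁ (v ≫ d.toBase)) fun i => ?_
      change Img h (pullback.fst (v ≫ d.toBase) (𝒰.f i) ≫ v ≫ d.toBase)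
      obtain ⟨z, hz1, hz2⟩ := hlift v i
      rw [← Category.assoc, ← hz2, Category.assoc, ← (hpb i).w, ← Category.assoc, ← H.iff]
      exact ⟨z, rfl⟩
    · intro hy
      have h1 : ∀ i, ∃ z : pullback y (𝒰.f i) ⟶ E i, z ≫ m i = pullback.snd y (𝒰.f i) := by
        intro i
        rw [H.iff, ← pullback.condition]
        exact hy.precomp _
      choose z hz using h1
      refine exists_lift_of_openCover d.toBase (𝒰.pullback₁ y) y
        (fun i => z i ≫ colimit.ι d.functor i) fun i => ?_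
      change (z i ≫ colimit.ι d.functor i) ≫ d.toBase = pullback.fst y (𝒰.f i) ≫ y
      rw [Category.assoc, ← (hpb i).w, ← Category.assoc, hz, pullback.condition]
  · rw [IsZariskiLocalAtSource.iff_of_openCover (P := @Etale) d.cover]
    intro i
    have e : ∀ i : 𝒰.I₀, Etale (colimit.ι d.functor i ≫ d.toBase ≫ b) := by
      intro i
      have h1 : m i ≫ 𝒰.f i = colimit.ι d.functor i ≫ d.toBase := (hpb i).w
      have h2 : m i ≫ 𝒰.f i ≫ b = (m i ≫ 𝒰.f i) ≫ b := (Category.assoc _ _ _).symm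
      have h3 : (m i ≫ 𝒰.f i) ≫ b = colimit.ι d.functor i ≫ d.toBase ≫ b := by
        rw [h1]
        exact Category.assoc _ _ _
      have h4 := het i
      rw [h2, h3] at h4
      exact h4
    exact e i

/-- Existence of flat images in formally unramified schemes. -/
theorem exists_rep [IsNoetherian S] (a : X ⟶ S) [Flat a]
    [LocallyOfFinitePresentation a] [QuasiCompact a] (b : Y ⟶ S) [FormallyUnramified b]
    (w : h ≫ b = a) :
    ∃ (E : Scheme.{u}) (m : E ⟶ Y), Rep h m ∧ Etale (m ≫ b) := by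
  have hX : IsNoetherian X := MaxLemma.isNoetherian_of_ft a
  have key : ∀ V : Y.affineOpens, ∃ (E : Scheme.{u}) (m : E ⟶ V.1.toScheme),
      Rep (h ∣_ V.1) m ∧ Etale (m ≫ V.1.ι ≫ b) := by
    intro V
    have hV : IsAffine V.1.toScheme := V.2
    have q1 : IsOpenImmersion (h ⁻¹ᵁ V.1).ι := inferInstance
    have q2 : QuasiCompact (h ⁻¹ᵁ V.1).ι := Main.qc_of_openImm _
    have q3 : LocallyOfFinitePresentation (h ⁻¹ᵁ V.1).ι := inferInstance
    have q4 : Flat ((h ⁻¹ᵁ V.1).ι ≫ a) := MorphismProperty.comp_mem _ _ _ inferInstance ‹_›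
    have q5 : QuasiCompact ((h ⁻¹ᵁ V.1).ι ≫ a) := MorphismProperty.comp_mem _ _ _ q2 ‹_›
    have q6 : LocallyOfFinitePresentation ((h ⁻¹ᵁ V.1).ι ≫ a) :=
      MorphismProperty.comp_mem _ _ _ q3 ‹_›
    have q7 : FormallyUnramified (V.1.ι ≫ b) := MorphismProperty.comp_mem _ _ _ inferInstance ‹_›
    have q8 : IsSeparated (V.1.ι ≫ b) := by
      have : IsSeparated ((V.1.ι ≫ b) ≫ terminal.from S) := inferInstance
      exact IsSeparated.of_comp (V.1.ι ≫ b) (terminal.from S)
    refine Main.exists_rep_of_isSeparated ((h ⁻¹ᵁ V.1).ι ≫ a) (V.1.ι ≫ b) (h ∣_ V.1) ?_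
    rw [← Category.assoc, morphismRestrict_ι, Category.assoc, w]
  choose E m hrep het using key
  have H : Loc Y.directedAffineCover h (E := E) m := by
    have e : ∀ (V : Y.affineOpens) {T : Scheme.{u}} (y : T ⟶ V.1.toScheme),
        (∃ v, v ≫ m V = y) ↔ Img h (y ≫ V.1.ι) := by
      intro V T y
      rw [(hrep V).iff]
      exact img_base (isPullback_morphismRestrict h V.1).flip y
    exact ⟨fun V => (hrep V).mono, fun V T y => e V y⟩
  have hsm : Small.{u} Y.directedAffineCover.I₀ := inferInstanceAs (Small.{u} Y.affineOpens)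
  exact exists_rep_of_loc H b het

end K991.Glue
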