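import Mathlib.AlgebraicGeometry.Sites.Fpqc
import Mathlib.AlgebraicGeometry.Morphisms.FlatDescent
import Mathlib.AlgebraicGeometry.Morphisms.LocalFlatDescent
import Groth.Agent.S0079

/-!
# Flat images of morphisms of schemes

For a morphism `h : X ⟶ Y` such that `X ×_Y X ⟶ X` is a flat cover, we consider the subfunctor of
`Y` of points which lift to `X` locally for the flat topology.
-/

set_option autoImplicit false
universe u
open CategoryTheory CategoryTheory.Limits AlgebraicGeometry TopologicalSpace Opposite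

namespace K991.Im

/-- Flat surjective quasi-compact morphisms locally of finite presentation. -/
def cov : MorphismProperty Scheme.{u} :=
  (@Surjective ⊓ @Flat ⊓ @QuasiCompact) ⊓ @LocallyOfFinitePresentation

theorem cov_iff {X Y : Scheme.{u}} (f : X ⟶ Y) :
    cov f ↔ Surjective f ∧ Flat f ∧ QuasiCompact f ∧ LocallyOfFinitePresentation f :=
  ⟨fun ⟨⟨⟨a, b⟩, c⟩, d⟩ => ⟨a, b, c, d⟩, fun ⟨a, b, c, d⟩ => ⟨⟨⟨a, b⟩, c⟩, d⟩⟩

instance : (cov.{u}).IsStableUnderBaseChange := by
  unfold cov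
  infer_instance

instance : IsZariskiLocalAtTarget (cov.{u}) := by
  unfold cov
  infer_instance

theorem flat_descends : MorphismProperty.DescendsAlong @Flat
    (@Surjective ⊓ @Flat ⊓ @QuasiCompact : MorphismProperty Scheme.{u}) :=
  HasRingHomProperty.descendsAlong_flat (by
    refine RingHom.CodescendsAlong.mk _ RingHom.Flat.respectsIso fun R S T _ _ _ _ _ h h' ↦ ?_
    rw [RingHom.flat_algebraMap_iff] at h' ⊢
    rw [RingHom.faithfullyFlat_algebraMap_iff] at h
    exact Module.Flat.of_flat_tensorProduct R T S)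

/-- The points of `Y` which come from `X` locally for the flat topology. -/
def Img {X Y : Scheme.{u}} (h : X ⟶ Y) {T : Scheme.{u}} (y : T ⟶ Y) : Prop :=
  cov (pullback.fst y h)

section

variable {X Y T : Scheme.{u}} {h : X ⟶ Y}

theorem img_iff {W : Scheme.{u}} {y : T ⟶ Y} {p : W ⟶ T} {q : W ⟶ X} (hW : IsPullback p q y h) :
    Img h y ↔ cov p := by
  have e : hW.isoPullback.hom ≫ pullback.fst y h = p := hW.isoPullback_hom_fst
  rw [← e, (cov.{u}).cancel_left_of_respectsIso]
  rfl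

theorem img_base {X' Z : Scheme.{u}} {qX : X' ⟶ X} {h' : X' ⟶ Z} {q : Z ⟶ Y}
    (hX : IsPullback qX h' h q) (y : T ⟶ Z) : Img h' y ↔ Img h (y ≫ q) := by
  have h1 := (IsPullback.of_hasPullback y h').flip.paste_horiz hX
  rw [img_iff h1.flip]
  rfl

theorem Img.precomp {y : T ⟶ Y} (hy : Img h y) {T' : Scheme.{u}} (t : T' ⟶ T) : Img h (t ≫ y) := by
  have h1 := (IsPullback.of_hasPullback t (pullback.fst y h)).flip.paste_horiz
    (IsPullback.of_hasPullback y h).flip
  rw [img_iff h1.flip]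
  exact MorphismProperty.pullback_fst _ _ hy

theorem img_of_cov {y : T ⟶ Y} {T' : Scheme.{u}} (c : T' ⟶ T) [Flat c] [Surjective c]
    [QuasiCompact c] (hy : Img h (c ≫ y)) : Img h y := by
  have h1 := (IsPullback.of_hasPullback c (pullback.fst y h)).flip.paste_horiz
    (IsPullback.of_hasPullback y h).flip
  rw [img_iff h1.flip, cov_iff] at hy
  obtain ⟨a1, a2, a3, a4⟩ := hy
  have hc : (@Surjective ⊓ @Flat ⊓ @QuasiCompact : MorphismProperty Scheme.{u}) c :=
    ⟨⟨inferInstance, inferInstance⟩, inferInstance⟩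
  have := flat_descends.{u}
  have := Groth.Agent.S0079.result.{u}
  refine (cov_iff _).mpr ⟨?_, ?_, ?_, ?_⟩
  · exact MorphismProperty.of_pullback_fst_of_descendsAlong (P := @Surjective) hc a1
  · exact MorphismProperty.of_pullback_fst_of_descendsAlong (P := @Flat) hc a2
  · exact MorphismProperty.of_pullback_fst_of_descendsAlong (P := @QuasiCompact) hc a3
  · exact MorphismProperty.of_pullback_fst_of_descendsAlong (P := @LocallyOfFinitePresentation)
      hc a4

theorem img_of_openCover {y : T ⟶ Y} (𝒰 : T.OpenCover) (hy : ∀ i, Img h (𝒰.f i ≫ y)) :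
    Img h y := by
  unfold Img
  rw [IsZariskiLocalAtTarget.iff_of_openCover (P := cov.{u}) 𝒰]
  intro i
  have h1 := (IsPullback.of_hasPullback (𝒰.f i) (pullback.fst y h)).flip.paste_horiz
    (IsPullback.of_hasPullback y h).flip
  have h2 := hy i
  rw [img_iff h1.flip] at h2
  have e : (pullbackSymmetry (pullback.fst y h) (𝒰.f i)).hom ≫
      pullback.fst (𝒰.f i) (pullback.fst y h) = pullback.snd (pullback.fst y h) (𝒰.f i) :=
    pullbackSymmetry_hom_comp_fst _ _
  change cov (pullback.snd (pullback.fst y h) (𝒰.f i))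
  rw [← e, (cov.{u}).cancel_left_of_respectsIso]
  exact h2

/-- `m : E ⟶ Y` represents the flat image of `h`. -/
structure Rep (h : X ⟶ Y) {E : Scheme.{u}} (m : E ⟶ Y) : Prop where
  mono : Mono m
  iff : ∀ ⦃T : Scheme.{u}⦄ (y : T ⟶ Y), (∃ v : T ⟶ E, v ≫ m = y) ↔ Img h y

/-- `X ⟶ E ⟶ Y` is a factorization of `h` as a flat cover followed by a monomorphism. -/
structure IsIm (h : X ⟶ Y) {E : Scheme.{u}} (u : X ⟶ E) (m : E ⟶ Y) : Prop where
  cov : cov u
  mono : Mono m
  w : u ≫ m = h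

/-- Factoring through a monomorphism is local for the fpqc topology. -/
theorem exists_lift_of_cov {E T' : Scheme.{u}} (m : E ⟶ Y) [Mono m] (c : T' ⟶ T) [Flat c]
    [Surjective c] [QuasiCompact c] (y : T ⟶ Y) (z : T' ⟶ E) (hz : z ≫ m = c ≫ y) :
    ∃ v : T ⟶ E, v ≫ m = y := by
  have hker : ∀ {Z : Scheme.{u}} (g₁ g₂ : Z ⟶ T'), g₁ ≫ c = g₂ ≫ c → g₁ ≫ z = g₂ ≫ z := by
    intro Z g₁ g₂ hg
    rw [← cancel_mono m, Category.assoc, Category.assoc, hz, ← Category.assoc, hg, Category.assoc]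
  obtain ⟨v, hv⟩ : ∃ v : T ⟶ E, c ≫ v = z :=
    ⟨EffectiveEpi.desc c z hker, EffectiveEpi.fac c z hker⟩
  refine ⟨v, ?_⟩
  rw [← cancel_epi c, ← Category.assoc, hv, hz]

theorem exists_lift_of_openCover {E : Scheme.{u}} (m : E ⟶ Y) [Mono m] (𝒰 : T.OpenCover)
    (y : T ⟶ Y) (z : ∀ i, 𝒰.X i ⟶ E) (hz : ∀ i, z i ≫ m = 𝒰.f i ≫ y) :
    ∃ v : T ⟶ E, v ≫ m = y := by
  refine ⟨𝒰.glueMorphisms z ?_, ?_⟩
  · intro i j
    rw [← cancel_mono m, Category.assoc, Category.assoc, hz, hz, pullback.condition_assoc]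
  · apply Scheme.Cover.hom_ext 𝒰
    intro i
    rw [Scheme.Cover.ι_glueMorphisms_assoc, hz]

theorem IsIm.rep {E : Scheme.{u}} {u : X ⟶ E} {m : E ⟶ Y} (H : IsIm h u m) : Rep h m where
  mono := H.mono
  iff := by
    intro T y
    have hm := H.mono
    constructor
    · rintro ⟨v, rfl⟩
      have h1 : IsPullback u (𝟙 X) m h := by
        refine ⟨⟨by rw [H.w, Category.id_comp]⟩, ⟨PullbackCone.IsLimit.mk _ (fun s => s.snd) ?_ ?_ ?_⟩⟩
        · intro s
          rw [← cancel_mono m, Category.assoc, H.w]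
          exact s.condition.symm
        · intro s
          simp
        · intro s m' _ h2
          simpa using h2
      have h2 : Img h m := (img_iff h1).mpr H.cov
      exact h2.precomp v
    · intro hy
      obtain ⟨a1, a2, a3, a4⟩ := (cov_iff _).mp hy
      refine exists_lift_of_cov m (pullback.fst y h) y (pullback.snd y h ≫ u) ?_
      rw [Category.assoc, H.w, pullback.condition]

theorem Rep.isIm {E : Scheme.{u}} {m : E ⟶ Y} (H : Rep h m) (hR : Img h h) :
    ∃ u : X ⟶ E, IsIm h u m := by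
  obtain ⟨u, hu⟩ := (H.iff h).mpr hR
  have hm := H.mono
  refine ⟨u, ?_, hm, hu⟩
  have h1 : IsPullback u (𝟙 X) m h := by
    refine ⟨⟨by rw [hu, Category.id_comp]⟩, ⟨PullbackCone.IsLimit.mk _ (fun s => s.snd) ?_ ?_ ?_⟩⟩
    · intro s
      rw [← cancel_mono m, Category.assoc, hu]
      exact s.condition.symm
    · intro s
      simp
    · intro s m' _ h2
      simpa using h2
  rw [← img_iff h1]
  exact (H.iff m).mp ⟨𝟙 E, by simp⟩

end

end K991.Im
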