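import Groth.Agent.EtHull.K991.Fact
import Groth.Agent.S2851
import Mathlib.AlgebraicGeometry.PullbackCarrier

/-!
# Largest admissible factorizations
-/

set_option autoImplicit false
universe u
open CategoryTheory CategoryTheory.Limits AlgebraicGeometry TopologicalSpace Opposite

namespace K991.MaxLemma

open K991.DomCrit K991.MaxPt K991.Fact

variable {X S : Scheme.{u}}

theorem map_isMaxPt_of_flat {A B : Scheme.{u}} (v : A ⟶ B) [Flat v] {a : A} (ha : IsMaxPt a) :
    IsMaxPt (v a) := by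
  intro y hy
  obtain ⟨z, hz, hzy⟩ := Flat.generalizingMap v hy
  rw [← hzy, ha z hz]

theorem isMaxPt_mem_range {E : Scheme.{u}} [IsLocallyNoetherian E] (u : X ⟶ E) [Flat u]
    [IsSchemeTheoreticallyDominant u] {e : E} (he : IsMaxPt e) : e ∈ Set.range u :=
  assPt_subset_range u (assPt_of_isMaxPt he)

/-- The map `X ×_E X ⟶ X ×_S X`. -/
noncomputable abbrev rho {f : X ⟶ S} {E : Scheme.{u}} {g : E ⟶ S} {u : X ⟶ E} (h : u ≫ g = f) :
    pullback u u ⟶ pullback f f :=
  pullback.map u u f f (𝟙 X) (𝟙 X) g (by simp [h]) (by simp [h])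

theorem isClosedImmersion_rho {f : X ⟶ S} {E : Scheme.{u}} {g : E ⟶ S} {u : X ⟶ E}
    (h : u ≫ g = f) [IsSeparated g] : IsClosedImmersion (rho h) := by
  subst h
  exact inferInstanceAs (IsClosedImmersion (pullback.mapDesc u u g))

/-- If `X ×_E X` and `X ×_{E'} X` have the same image in `X ×_S X`, the étale map `E' ⟶ E` is a
monomorphism. -/
theorem mono_of_range_subset [IsNoetherian S] {f : X ⟶ S} [Flat f]
    {E E' : Scheme.{u}} {g : E ⟶ S} {u : X ⟶ E} {g' : E' ⟶ S} {u' : X ⟶ E'}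
    (a : Adm f E g u) (a' : Adm f E' g' u') (v : E' ⟶ E) (hu : u' ≫ v = u) (hg : v ≫ g = g')
    (hR : Set.range (rho a.w) ⊆ Set.range (rho a'.w)) : Mono v := by
  have i1 := a.etale
  have i2 := a.affine
  have i3 := a'.etale
  have i4 := a'.affine
  have i5 := a'.dom
  have hvet : Etale v := by
    have : Etale (v ≫ g) := by rw [hg]; exact i3
    exact Etale.of_comp v g
  have hvaff : IsAffineHom v := by
    have : IsAffineHom (v ≫ g) := by rw [hg]; exact i4
    exact MorphismProperty.of_postcomp (W := @IsAffineHom) (W' := @IsSeparated) v g inferInstance this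
  have hfl : Flat u' := flat_of_comp_etale u' g' (by rw [a'.w]; infer_instance)
  have hNE : IsNoetherian E := isNoetherian_of_etale_affine g
  have hNE' : IsNoetherian E' := isNoetherian_of_etale_affine g'
  rw [← pullback.isIso_diagonal_iff]
  have hopen : IsOpenImmersion (pullback.diagonal v) := inferInstance
  have hclosed : IsClosedImmersion (pullback.diagonal v) := inferInstance
  -- the map `X ×_E X ⟶ E' ×_E E'`
  let m : pullback u u ⟶ pullback v v :=
    pullback.map u u v v u' u' (𝟙 E) (by simp [hu]) (by simp [hu])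
  have hcl1 : IsClosedImmersion (rho a.w) := isClosedImmersion_rho a.w
  -- the map `X ×_{E'} X ⟶ X ×_E X`
  let n : pullback u' u' ⟶ pullback u u :=
    pullback.map u' u' u u (𝟙 X) (𝟙 X) v (by simp [hu]) (by simp [hu])
  have hn : n ≫ rho a.w = rho a'.w := by
    apply pullback.hom_ext
    · simp [n, rho, pullback.lift_fst]
    · simp [n, rho, pullback.lift_snd]
  have hnm : n ≫ m = (pullback.fst u' u' ≫ u') ≫ pullback.diagonal v := by
    apply pullback.hom_ext
    · simp [n, m, pullback.lift_fst, pullback.lift_fst_assoc]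
    · simp [n, m, pullback.condition, pullback.lift_snd, pullback.lift_snd_assoc]
  have hmax : ∀ z : ↥(pullback v v), IsMaxPt z → z ∈ Set.range (pullback.diagonal v) := by
    intro z hz
    have h1 : IsMaxPt (pullback.fst v v z) := map_isMaxPt_of_flat _ hz
    have h2 : IsMaxPt (pullback.snd v v z) := map_isMaxPt_of_flat _ hz
    have h3 : z ∈ Set.range m := by
      rw [Scheme.Pullback.range_map]
      exact ⟨isMaxPt_mem_range u' h1, isMaxPt_mem_range u' h2⟩
    obtain ⟨t, rfl⟩ := h3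
    obtain ⟨s, hs⟩ := hR ⟨t, rfl⟩
    have h4 : n s = t := by
      apply (rho a.w).isClosedEmbedding.injective
      rw [← hs, ← hn]
      rfl
    refine ⟨(pullback.fst u' u' ≫ u') s, ?_⟩
    rw [← h4]
    change ((pullback.fst u' u' ≫ u') ≫ pullback.diagonal v) s = (n ≫ m) s
    rw [hnm]
  have hsurj : Function.Surjective (pullback.diagonal v) := by
    intro z
    obtain ⟨y, hy1, hy2⟩ := exists_isMaxPt z
    have h1 := hmax y hy2
    exact hy1.mem_closed (pullback.diagonal v).isClosedEmbedding.isClosed_range h1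
  have hepi : Surjective (pullback.diagonal v) := ⟨hsurj⟩
  rw [isIso_iff_isOpenImmersion_and_surjective]
  exact ⟨hopen, hepi⟩

theorem isNoetherian_of_ft {A B : Scheme.{u}} [IsNoetherian B] (g : A ⟶ B)
    [LocallyOfFiniteType g] [QuasiCompact g] : IsNoetherian A where
  toIsLocallyNoetherian := LocallyOfFiniteType.isLocallyNoetherian g
  toCompactSpace := QuasiCompact.compactSpace_of_compactSpace g

/-- In codimension one, proper generizations are maximal points. -/
theorem isMaxPt_of_specializes_of_dim_le_one {E : Scheme.{u}} {y z : E} (hyz : y ⤳ z) (hne : y ≠ z)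
    (hdim : ringKrullDim (E.presheaf.stalk z) ≤ 1) : IsMaxPt y := by
  intro w hw
  have hr := E.range_fromSpecStalk (x := z)
  obtain ⟨P, hP⟩ : y ∈ Set.range (E.fromSpecStalk z) := by rw [hr]; exact hyz
  obtain ⟨Q, hQ⟩ : w ∈ Set.range (E.fromSpecStalk z) := by rw [hr]; exact hw.trans hyz
  have hemb := (E.fromSpecStalk z).isEmbedding
  have hQP : Q.asIdeal ≤ P.asIdeal := by
    have : Q ⤳ P := by
      rw [← hemb.toIsInducing.specializes_iff, hQ, hP]
      exact hw
    exact (PrimeSpectrum.le_iff_specializes _ _).mpr this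
  have hKD : Ring.KrullDimLE 1 (E.presheaf.stalk z) := Ring.krullDimLE_iff.mpr hdim
  rcases Ring.krullDimLE_one_iff.mp hKD P.asIdeal P.2 with h | h
  · have h1 : P.asIdeal ≤ Q.asIdeal := h.2 ⟨Q.2, bot_le⟩ hQP
    have h2 : Q = P := PrimeSpectrum.ext (le_antisymm hQP h1)
    rw [← hP, ← hQ, h2]
  · exfalso
    apply hne
    have h2 : P = IsLocalRing.closedPoint (E.presheaf.stalk z) :=
      PrimeSpectrum.ext (IsLocalRing.eq_maximalIdeal h)
    rw [← hP, h2]
    exact Scheme.fromSpecStalk_closedPoint (x := z)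

/-- If the maximal points of the complement of the image of `X` are hit by the affine open immersion
`v`, then `v` is an isomorphism. -/
theorem isIso_of_maxPts [IsNoetherian S] {f : X ⟶ S} [Flat f]
    {E E' : Scheme.{u}} {g : E ⟶ S} {u : X ⟶ E} {g' : E' ⟶ S} {u' : X ⟶ E'}
    (a : Adm f E g u) (a' : Adm f E' g' u') (v : E' ⟶ E) (hu : u' ≫ v = u) (hg : v ≫ g = g')
    [IsOpenImmersion v]
    (hM : ∀ z : E, z ∉ Set.range u → (∀ y, y ∉ Set.range u → y ⤳ z → y = z) → z ∈ Set.range v) :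
    IsIso v := by
  have i1 := a.etale
  have i2 := a.affine
  have i2' := a.dom
  have i3 := a'.etale
  have i4 := a'.affine
  have i5 := a'.dom
  have hvaff : IsAffineHom v := by
    have : IsAffineHom (v ≫ g) := by rw [hg]; exact i4
    exact MorphismProperty.of_postcomp (W := @IsAffineHom) (W' := @IsSeparated) v g inferInstance this
  have hfl : Flat u := flat_of_comp_etale u g (by rw [a.w]; infer_instance)
  have hNE : IsNoetherian E := isNoetherian_of_etale_affine g
  have hsub : Set.range u ⊆ Set.range v := by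
    rintro _ ⟨x, rfl⟩
    exact ⟨u' x, by rw [← hu]; rfl⟩
  have hιaff : IsAffineHom v.opensRange.ι := by
    have h1 : v.opensRange.ι = v.isoOpensRange.inv ≫ v := by simp
    rw [h1]
    infer_instance
  have hsurj : Function.Surjective v := by
    by_contra hcon
    rw [Function.Surjective] at hcon
    push Not at hcon
    obtain ⟨t, ht⟩ := hcon
    have ht' : t ∉ Set.range v := fun ⟨a, ha⟩ => ht a ha
    -- a maximal point of the complement of the range of `v`
    obtain ⟨z, hz1, hz2, hz3⟩ : ∃ z : E, z ∉ Set.range v ∧ z ⤳ t ∧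
        ∀ y, y ∉ Set.range v → y ⤳ z → y = z := by
      let T : Set E := (Set.range v)ᶜ
      have hT : IsClosed T := v.isOpenEmbedding.isOpen_range.isClosed_compl
      have hemb : Topology.IsClosedEmbedding (Subtype.val : T → E) := hT.isClosedEmbedding_subtypeVal
      have : QuasiSober T := hemb.quasiSober
      obtain ⟨z, hz1, hz2⟩ := exists_isMaxPt (⟨t, ht'⟩ : T)
      refine ⟨z.1, z.2, hemb.isInducing.specializes_iff.mpr hz1, fun y hy hyz => ?_⟩
      exact congrArg Subtype.val (hz2 ⟨y, hy⟩ (hemb.isInducing.specializes_iff.mp hyz))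
    have hdim := Groth.Agent.S2851.result E v.opensRange z hz1 (fun η hη hηz => hz3 η hη hηz)
    apply hz1
    refine hM z (fun h => hz1 (hsub h)) fun y hy hyz => ?_
    by_contra hne
    exact hy (isMaxPt_mem_range u (isMaxPt_of_specializes_of_dim_le_one hyz hne hdim))
  rw [isIso_iff_isOpenImmersion_and_surjective]
  exact ⟨inferInstance, ⟨hsurj⟩⟩

/-- Bundled admissible factorizations. -/
structure Fac (f : X ⟶ S) where
  /-- the middle scheme -/
  E : Scheme.{u}
  /-- the structure morphism -/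
  g : E ⟶ S
  /-- the morphism from the source -/
  u : X ⟶ E
  adm : Adm f E g u

/-- The preorder of admissible factorizations. -/
def Fac.Le {f : X ⟶ S} (F G : Fac f) : Prop := ∃ v : F.E ⟶ G.E, F.u ≫ v = G.u ∧ v ≫ G.g = F.g

theorem Fac.Le.trans {f : X ⟶ S} {F G H : Fac f} (h : F.Le G) (h' : G.Le H) : F.Le H := by
  obtain ⟨v, hv1, hv2⟩ := h
  obtain ⟨w, hw1, hw2⟩ := h'
  exact ⟨v ≫ w, by rw [← Category.assoc, hv1, hw1], by rw [Category.assoc, hw2, hv2]⟩

theorem exists_max [IsNoetherian S] {f : X ⟶ S} [Flat f] [LocallyOfFinitePresentation f]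
    [hqc : QuasiCompact f] (P : Set (Fac f)) (hne : P.Nonempty)
    (hdir : ∀ F ∈ P, ∀ G ∈ P, ∃ H ∈ P, H.Le F ∧ H.Le G) :
    ∃ F₀ ∈ P, ∀ F ∈ P, F₀.Le F := by
  have hX : IsNoetherian X := isNoetherian_of_ft f
  have hXX : IsNoetherian (pullback f f) := isNoetherian_of_ft (pullback.fst f f ≫ f)
  have hcl : ∀ F : Fac f, IsClosed (Set.range (rho F.adm.w)) := fun F => by
    have := F.adm.affine
    have := isClosedImmersion_rho F.adm.w
    exact (rho F.adm.w).isClosedEmbedding.isClosed_range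
  let R : Fac f → Closeds ↥(pullback f f) := fun F => ⟨Set.range (rho F.adm.w), hcl F⟩
  have hwf : WellFoundedLT (Closeds ↥(pullback f f)) := inferInstance
  obtain ⟨_, ⟨F₁, hF₁, rfl⟩, hmin⟩ := hwf.wf.has_min (R '' P) (hne.image _)
  have hRmin : ∀ F ∈ P, F.Le F₁ → Set.range (rho F₁.adm.w) ⊆ Set.range (rho F.adm.w) := by
    rintro F hF ⟨v, hv1, hv2⟩
    have h1 : ¬ R F < R F₁ := hmin _ ⟨F, hF, rfl⟩
    have h2 : R F ≤ R F₁ := by
      let n : pullback F.u F.u ⟶ pullback F₁.u F₁.u :=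
        pullback.map F.u F.u F₁.u F₁.u (𝟙 X) (𝟙 X) v (by simp [hv1]) (by simp [hv1])
      have hn : n ≫ rho F₁.adm.w = rho F.adm.w := by
        apply pullback.hom_ext
        · simp [n, rho, pullback.lift_fst]
        · simp [n, rho, pullback.lift_snd]
      rintro _ ⟨x, rfl⟩
      exact ⟨n x, by rw [← hn]; rfl⟩
    have h3 : R F = R F₁ := by
      by_contra hcon
      exact h1 (lt_of_le_of_ne h2 hcon)
    exact (congrArg (fun Z : Closeds ↥(pullback f f) => (Z : Set ↥(pullback f f))) h3).ge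
  have hmono : ∀ F ∈ P, ∀ v : F.E ⟶ F₁.E, F.u ≫ v = F₁.u → v ≫ F₁.g = F.g → Mono v :=
    fun F hF v hv1 hv2 => mono_of_range_subset F₁.adm F.adm v hv1 hv2 (hRmin F hF ⟨v, hv1, hv2⟩)
  have hopen : ∀ F ∈ P, ∀ v : F.E ⟶ F₁.E, F.u ≫ v = F₁.u → v ≫ F₁.g = F.g →
      IsOpenImmersion v := by
    intro F hF v hv1 hv2
    have h1 := hmono F hF v hv1 hv2
    have h2 : Etale v := by
      have := F.adm.etale
      have := F₁.adm.etale
      have : Etale (v ≫ F₁.g) := by rw [hv2]; infer_instance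
      exact Etale.of_comp v F₁.g
    exact IsOpenImmersion.of_flat_of_mono v
  -- maximal points of the complement of the image of `X`
  let M : Set F₁.E := {z ∈ (Set.range F₁.u)ᶜ | ∀ y ∈ (Set.range F₁.u)ᶜ, y ⤳ z → y = z}
  have hNE₁ : IsNoetherian F₁.E := by
    have := F₁.adm.etale
    have := F₁.adm.affine
    exact isNoetherian_of_etale_affine F₁.g
  have hMfin : M.Finite := by
    apply finite_maxPts_of_isClosed
    have := F₁.adm.etale
    have hfl : Flat F₁.u := flat_of_comp_etale F₁.u F₁.g (by rw [F₁.adm.w]; infer_instance)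
    have hfp : LocallyOfFinitePresentation F₁.u := by
      have : LocallyOfFinitePresentation (F₁.u ≫ F₁.g) := by rw [F₁.adm.w]; infer_instance
      exact Groth.Agent.Ega43.FPOfComp.locallyOfFinitePresentation_of_comp F₁.u F₁.g
    exact F₁.u.isOpenMap.isOpen_range.isClosed_compl
  let T : Set ℕ := {n | ∃ F ∈ P, ∃ v : F.E ⟶ F₁.E, F.u ≫ v = F₁.u ∧ v ≫ F₁.g = F.g ∧
    n = (M ∩ Set.range v).ncard}
  have hT : T.Nonempty := ⟨_, F₁, hF₁, 𝟙 _, by simp, by simp, rfl⟩
  obtain ⟨n, ⟨F₀, hF₀, v₀, hv₀, hv₀', rfl⟩, hnmin⟩ := Nat.lt_wfRel.wf.has_min T hT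
  refine ⟨F₀, hF₀, fun F hF => ?_⟩
  obtain ⟨H, hH, ⟨v, hv1, hv2⟩, ⟨w, hw1, hw2⟩⟩ := hdir F₀ hF₀ F hF
  have e1 : H.u ≫ (v ≫ v₀) = F₁.u := by rw [← Category.assoc, hv1, hv₀]
  have e2 : (v ≫ v₀) ≫ F₁.g = H.g := by rw [Category.assoc, hv₀', hv2]
  have i1 : IsOpenImmersion (v ≫ v₀) := hopen H hH _ e1 e2
  have i2 : IsOpenImmersion v₀ := hopen F₀ hF₀ _ hv₀ hv₀'
  have i3 : IsOpenImmersion v := IsOpenImmersion.of_comp v v₀
  have hsub : M ∩ Set.range (v ≫ v₀) ⊆ M ∩ Set.range v₀ := by
    rintro z ⟨hz, t, rfl⟩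
    exact ⟨hz, v t, rfl⟩
  have heq : M ∩ Set.range (v ≫ v₀) = M ∩ Set.range v₀ := by
    apply Set.eq_of_subset_of_ncard_le hsub _ (hMfin.subset Set.inter_subset_left)
    by_contra hcon
    exact hnmin _ ⟨H, hH, v ≫ v₀, e1, e2, rfl⟩ (not_le.mp hcon)
  have hiso : IsIso v := by
    apply isIso_of_maxPts F₀.adm H.adm v hv1 hv2
    intro z hz hzmax
    have hz1 : v₀ z ∈ M := by
      refine ⟨?_, ?_⟩
      · rintro ⟨x, hx⟩
        apply hz
        refine ⟨x, ?_⟩
        apply v₀.isOpenEmbedding.injective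
        rw [← hx, ← hv₀]
        rfl
      · intro y hy hyz
        obtain ⟨y', rfl⟩ : y ∈ Set.range v₀ :=
          hyz.mem_open v₀.isOpenEmbedding.isOpen_range ⟨z, rfl⟩
        rw [hzmax y' ?_ ?_]
        · rintro ⟨x, hx⟩
          apply hy
          refine ⟨x, ?_⟩
          rw [← hx, ← hv₀]
          rfl
        · exact v₀.isOpenEmbedding.isInducing.specializes_iff.mp hyz
    have hz2 : v₀ z ∈ M ∩ Set.range (v ≫ v₀) := by
      rw [heq]
      exact ⟨hz1, z, rfl⟩
    obtain ⟨-, t, ht⟩ := hz2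
    exact ⟨t, v₀.isOpenEmbedding.injective ht⟩
  refine ⟨inv v ≫ w, ?_, ?_⟩
  · rw [← hw1, ← hv1, Category.assoc, IsIso.hom_inv_id_assoc]
  · rw [Category.assoc, hw2, ← hv2, IsIso.inv_hom_id_assoc]

end K991.MaxLemma
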