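import Groth.Agent.EtHull.K991.Descend
import Groth.Agent.EtHull.K991.Disj
import Groth.Agent.EtHull.K991.Few
import Groth.Agent.EtHull.K991.MaxLemma

/-!
# Existence of flat images in formally unramified schemes
-/

set_option autoImplicit false
universe u
open CategoryTheory CategoryTheory.Limits AlgebraicGeometry TopologicalSpace Opposite

namespace K991.Main

open K991.Im K991.Few K991.MaxPt K991.Disj K991.Diag K991.MaxLemma

theorem qc_of_openImm {A B : Scheme.{u}} [IsLocallyNoetherian B] (f : A ⟶ B) [IsOpenImmersion f] :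
    QuasiCompact f := inferInstance

theorem sep_of_mono {A B : Scheme.{u}} (f : A ⟶ B) [Mono f] : IsSeparated f := inferInstance

/-- For `X` flat and `Y` formally unramified, `X ×_Y X ⟶ X` is a flat cover. -/
theorem img_self {X Y S : Scheme.{u}} [IsNoetherian S] (a : X ⟶ S) [Flat a]
    [LocallyOfFinitePresentation a] [QuasiCompact a] (b : Y ⟶ S) [FormallyUnramified b]
    (h : X ⟶ Y) (w : h ≫ b = a) : Img h h := by
  subst w
  have hX : IsNoetherian X := isNoetherian_of_ft (h ≫ b)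
  have hXX : IsNoetherian (pullback (h ≫ b) (h ≫ b)) :=
    isNoetherian_of_ft (pullback.fst (h ≫ b) (h ≫ b) ≫ (h ≫ b))
  let i : pullback h h ⟶ pullback (h ≫ b) (h ≫ b) := pullback.mapDesc h h b
  have hi1 : i ≫ pullback.fst (h ≫ b) (h ≫ b) = pullback.fst h h := by
    simp [i, pullback.lift_fst]
  have hi2 : i ≫ pullback.snd (h ≫ b) (h ≫ b) = pullback.snd h h := by
    simp [i, pullback.lift_snd]
  have himm : IsImmersion i := inferInstance
  have hopen : IsOpenImmersion i := by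
    refine isOpenImmersion_of_equalizes b (pullback.fst (h ≫ b) (h ≫ b) ≫ h)
      (pullback.snd (h ≫ b) (h ≫ b) ≫ h) ?_ i ?_ ?_
    · rw [Category.assoc, Category.assoc, pullback.condition]
    · rw [← Category.assoc, ← Category.assoc, hi1, hi2, pullback.condition]
    · intro T t ht
      refine ⟨pullback.lift (t ≫ pullback.fst _ _) (t ≫ pullback.snd _ _)
        (by simpa only [Category.assoc] using ht), ?_⟩
      apply pullback.hom_ext
      · rw [Category.assoc, hi1, pullback.lift_fst]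
      · rw [Category.assoc, hi2, pullback.lift_snd]
  have hqc : QuasiCompact i := inferInstance
  refine (cov_iff _).mpr ⟨?_, ?_, ?_, ?_⟩
  · refine ⟨fun x => ⟨pullback.diagonal h x, ?_⟩⟩
    have h1 : pullback.diagonal h ≫ pullback.fst h h = 𝟙 X := pullback.diagonal_fst h
    change (pullback.diagonal h ≫ pullback.fst h h) x = x
    rw [h1]
    rfl
  · rw [← hi1]; infer_instance
  · rw [← hi1]; infer_instance
  · rw [← hi1]; infer_instance

theorem few_zero {X Y S : Scheme.{u}} (a : X ⟶ S) [Flat a] (h : X ⟶ Y)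
    (hf : Few a h 0) : IsEmpty X := by
  by_contra hne
  rw [not_isEmpty_iff] at hne
  obtain ⟨x₀⟩ := hne
  obtain ⟨ξ, -, hξ⟩ := exists_isMaxPt x₀
  let L : Type u := AlgebraicClosure (X.residueField ξ)
  let x : Spec (CommRingCat.of L) ⟶ X :=
    Spec.map (CommRingCat.ofHom (algebraMap (X.residueField ξ) L)) ≫ X.fromSpecResidueField ξ
  obtain ⟨i, j, hij, -⟩ := hf L (x ≫ a) (fun _ => x) (fun _ => rfl) (fun z => by
    have h1 : x z = ξ := by
      change X.fromSpecResidueField ξ _ = ξ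
      exact X.fromSpecResidueField_apply ξ _
    have h2 : (x ≫ a) z = a ξ := by
      change a (x z) = a ξ
      rw [h1]
    rw [h2]
    exact map_isMaxPt_of_flat a hξ)
  exact hij (Fin.ext (by omega))

theorem exists_eqLocus {Y S C : Scheme.{u}} (b : Y ⟶ S) [FormallyUnramified b] [IsSeparated b]
    [IsLocallyNoetherian C] (g₁ g₂ : C ⟶ Y) (hg : g₁ ≫ b = g₂ ≫ b) :
    ∃ (R : Scheme.{u}) (i : R ⟶ C), IsOpenImmersion i ∧ IsClosedImmersion i ∧ i ≫ g₁ = i ≫ g₂ ∧
      ∀ {T : Scheme.{u}} (t : T ⟶ C), t ≫ g₁ = t ≫ g₂ → ∃ v, v ≫ i = t :=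
  ⟨_, eqι b g₁ g₂ hg, isOpenImmersion_eqι b g₁ g₂ hg, inferInstance, eqι_w b g₁ g₂ hg,
    exists_lift_eqι b g₁ g₂ hg⟩

theorem step {n : ℕ}
    (IH : ∀ {X Y S : Scheme.{u}} [IsNoetherian S] (a : X ⟶ S) [Flat a]
      [LocallyOfFinitePresentation a] [QuasiCompact a] (b : Y ⟶ S) [FormallyUnramified b]
      [IsSeparated b] (h : X ⟶ Y), h ≫ b = a → Few a h n →
      ∃ (E : Scheme.{u}) (m : E ⟶ Y), Rep h m ∧ Etale (m ≫ b))
    {X Y S : Scheme.{u}} [IsNoetherian S] (a : X ⟶ S) [Flat a] [LocallyOfFinitePresentation a]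
    [QuasiCompact a] [Surjective a] (b : Y ⟶ S) [FormallyUnramified b] [IsSeparated b]
    (h : X ⟶ Y) (w : h ≫ b = a) (hf : Few a h (n + 1)) :
    ∃ (E : Scheme.{u}) (m : E ⟶ Y), Rep h m ∧ Etale (m ≫ b) := by
  have hX : IsNoetherian X := isNoetherian_of_ft a
  have hXX : IsNoetherian (pullback a a) := isNoetherian_of_ft (pullback.fst a a ≫ a)
  let b' : pullback b a ⟶ X := pullback.snd b a
  have b'1 : FormallyUnramified b' := MorphismProperty.pullback_snd _ _ ‹_›
  have b'2 : IsSeparated b' := MorphismProperty.pullback_snd _ _ ‹_›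
  have s1 : Flat (pullback.snd a a) := MorphismProperty.pullback_snd _ _ ‹_›
  have s2 : LocallyOfFinitePresentation (pullback.snd a a) := MorphismProperty.pullback_snd _ _ ‹_›
  have s3 : QuasiCompact (pullback.snd a a) := MorphismProperty.pullback_snd _ _ ‹_›
  obtain ⟨h', hh1, hh2⟩ : ∃ h' : pullback a a ⟶ pullback b a,
      h' ≫ pullback.fst b a = pullback.fst a a ≫ h ∧ h' ≫ pullback.snd b a = pullback.snd a a :=
    ⟨pullback.lift (pullback.fst a a ≫ h) (pullback.snd a a)
      (by rw [Category.assoc, w, pullback.condition]), pullback.lift_fst _ _ _, pullback.lift_snd _ _ _⟩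
  have hsq : IsPullback (pullback.fst a a) h' h (pullback.fst b a) := by
    refine IsPullback.of_bot (v₂₁ := pullback.snd b a) (v₂₂ := b) (h₃₁ := a) ?_ hh1.symm
      (IsPullback.of_hasPullback b a)
    rw [hh2, w]
    exact IsPullback.of_hasPullback a a
  obtain ⟨σ, hσ1, hσ2⟩ : ∃ σ : X ⟶ pullback b a,
      σ ≫ pullback.fst b a = h ∧ σ ≫ pullback.snd b a = 𝟙 X :=
    ⟨pullback.lift h (𝟙 X) (by rw [w, Category.id_comp]), pullback.lift_fst _ _ _,
      pullback.lift_snd _ _ _⟩
  -- the locus of pairs of equivalent points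
  have hg : (pullback.fst a a ≫ h) ≫ b = (pullback.snd a a ≫ h) ≫ b := by
    rw [Category.assoc, Category.assoc, w, pullback.condition]
  obtain ⟨R, i₁, hi₁o, hi₁c, hi₁w, hi₁l⟩ := exists_eqLocus b (pullback.fst a a ≫ h)
    (pullback.snd a a ≫ h) hg
  let O : (pullback a a).Opens := ⟨(Set.range i₁)ᶜ, i₁.isClosedEmbedding.isClosed_range.isOpen_compl⟩
  -- points in `O` do not lie in `R`
  have hO : ∀ {T : Scheme.{u}} (t : T ⟶ O.toScheme),
      t ≫ O.ι ≫ pullback.fst a a ≫ h = t ≫ O.ι ≫ pullback.snd a a ≫ h → IsEmpty T := by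
    intro T t ht
    obtain ⟨v, hv⟩ := hi₁l (t ≫ O.ι) (by simpa only [Category.assoc] using ht)
    refine ⟨fun z => ?_⟩
    have h1 : (t ≫ O.ι) z ∈ Set.range i₁ := ⟨v z, by rw [← hv]; rfl⟩
    have h2 : (t ≫ O.ι) z ∈ O := (t z).2
    exact h2 h1
  have hcompl : IsCompl i₁.opensRange O.ι.opensRange := by
    rw [Scheme.Opens.opensRange_ι]
    constructor
    · rw [disjoint_iff]
      ext z
      simp only [TopologicalSpace.Opens.coe_inf, TopologicalSpace.Opens.coe_bot, Set.mem_inter_iff,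
        Set.mem_empty_iff_false, iff_false]
      rintro ⟨h1, h2⟩
      exact h2 h1
    · rw [codisjoint_iff]
      ext z
      simp only [TopologicalSpace.Opens.coe_sup, TopologicalSpace.Opens.coe_top, Set.mem_univ,
        iff_true]
      exact em (z ∈ Set.range i₁)
  have hOq0 : QuasiCompact O.ι := qc_of_openImm O.ι
  clear_value O
  -- the part on `R`
  have I₁ : IsIm (i₁ ≫ h') (i₁ ≫ pullback.snd a a) σ := by
    refine ⟨?_, ?_, ?_⟩
    · have q0 : LocallyOfFinitePresentation i₁ := inferInstance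
      have q1 : Flat (i₁ ≫ pullback.snd a a) := MorphismProperty.comp_mem _ _ _ inferInstance s1
      have q2 : LocallyOfFinitePresentation (i₁ ≫ pullback.snd a a) :=
        MorphismProperty.comp_mem _ _ _ q0 s2
      have q3 : QuasiCompact (i₁ ≫ pullback.snd a a) := MorphismProperty.comp_mem _ _ _ inferInstance s3
      refine (cov_iff _).mpr ⟨?_, q1, q3, q2⟩
      obtain ⟨v, hv⟩ := hi₁l (pullback.diagonal a) (by
          rw [← Category.assoc, ← Category.assoc, pullback.diagonal_fst, pullback.diagonal_snd])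
      refine ⟨fun x => ⟨v x, ?_⟩⟩
      have h1 : v ≫ i₁ ≫ pullback.snd a a = 𝟙 X := by
        rw [← Category.assoc, show v ≫ i₁ = pullback.diagonal a from hv, pullback.diagonal_snd]
      change (v ≫ i₁ ≫ pullback.snd a a) x = x
      rw [h1]
      rfl
    · have : Mono (σ ≫ pullback.snd b a) := by rw [hσ2]; infer_instance
      exact mono_of_mono σ (pullback.snd b a)
    · apply pullback.hom_ext
      · rw [Category.assoc, Category.assoc, Category.assoc, hσ1, hh1, hi₁w]
      · rw [Category.assoc, Category.assoc, Category.assoc, hσ2, hh2, Category.comp_id]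
  -- the complement
  have q0 : LocallyOfFinitePresentation O.ι := inferInstance
  have q4 : Flat (O.ι ≫ pullback.snd a a) := MorphismProperty.comp_mem _ _ _ inferInstance s1
  have q5 : LocallyOfFinitePresentation (O.ι ≫ pullback.snd a a) :=
    MorphismProperty.comp_mem _ _ _ q0 s2
  have hOq : QuasiCompact (O.ι ≫ pullback.snd a a) := MorphismProperty.comp_mem _ _ _ hOq0 s3
  have hw'' : (O.ι ≫ h') ≫ b' = O.ι ≫ pullback.snd a a := by
    rw [Category.assoc]
    exact congrArg (fun z => O.ι ≫ z) hh2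
  have hfew : Few (O.ι ≫ pullback.snd a a) (O.ι ≫ h') n := by
    intro L _ _ s x hx hs
    let y : Fin (n + 1 + 1) → (Spec (CommRingCat.of L) ⟶ X) :=
      Fin.cons s (fun i => x i ≫ O.ι ≫ pullback.fst a a)
    have hy : ∀ i, y i ≫ a = s ≫ a := by
      intro i
      refine Fin.cases rfl (fun i => ?_) i
      change (x i ≫ O.ι ≫ pullback.fst a a) ≫ a = s ≫ a
      rw [← hx i]
      simp only [Category.assoc, pullback.condition]
    obtain ⟨i, j, hij, hxy⟩ := hf L (s ≫ a) y hy (fun z => by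
      change IsMaxPt (a (s z))
      exact map_isMaxPt_of_flat a (hs z))
    have key0 : ∀ k, s ≫ h ≠ (x k ≫ O.ι ≫ pullback.fst a a) ≫ h := by
      intro k hk
      have h1 := hO (x k) (by
        rw [← hx k] at hk
        simpa only [Category.assoc] using hk.symm)
      obtain ⟨z₀⟩ : Nonempty (Spec (CommRingCat.of L)) := inferInstance
      exact h1.false z₀
    revert hij hxy
    refine Fin.cases ?_ (fun i => ?_) i <;> refine Fin.cases ?_ (fun j => ?_) j
    · intro hij; exact absurd rfl hij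
    · intro _ hxy; exact absurd hxy (key0 j)
    · intro _ hxy; exact absurd hxy.symm (key0 i)
    · intro hij hxy
      refine ⟨i, j, fun e => hij (by rw [e]), ?_⟩
      have hxy' : (x i ≫ O.ι ≫ pullback.fst a a) ≫ h = (x j ≫ O.ι ≫ pullback.fst a a) ≫ h := hxy
      apply pullback.hom_ext
      · simp only [Category.assoc, hh1]
        simpa only [Category.assoc] using hxy'
      · simp only [Category.assoc, hh2]
        rw [hx i, hx j]
  obtain ⟨E'', m'', hrep'', het''⟩ := IH (O.ι ≫ pullback.snd a a) b' (O.ι ≫ h') hw'' hfew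
  obtain ⟨u'', I₂⟩ := hrep''.isIm (img_self (O.ι ≫ pullback.snd a a) b' (O.ι ≫ h') hw'')
  obtain ⟨u', I'⟩ := exists_isIm_of_isCompl i₁ O.ι hcompl h' I₁ I₂ (by
    intro T r o hro
    have e1 := congrArg (fun z => z ≫ pullback.fst b a) hro
    have e2 := congrArg (fun z => z ≫ pullback.snd b a) hro
    simp only [Category.assoc, hh1, hh2] at e1 e2
    refine hO o ?_
    rw [← e1, hi₁w]
    have e3 := congrArg (fun z => z ≫ h) e2
    simpa only [Category.assoc] using e3)
  have e1 : coprod.desc σ m'' ≫ pullback.snd b a = coprod.desc (𝟙 X) (m'' ≫ b') := by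
    apply coprod.hom_ext
    · rw [coprod.inl_desc_assoc, coprod.inl_desc, hσ2]
    · rw [coprod.inr_desc_assoc, coprod.inr_desc]
  have j1 : Etale (coprod.desc σ m'' ≫ pullback.snd b a) := by
    rw [e1]
    exact etale_coprodDesc _ _
  have hmono := I'.mono
  have j2 : IsSeparated (coprod.desc σ m'' ≫ pullback.snd b a) :=
    MorphismProperty.comp_mem _ _ _ (sep_of_mono _) b'2
  have hcE : CompactSpace ↥(X ⨿ E'' : Scheme.{u}) := by
    have hs : Surjective u' := ((cov_iff _).mp I'.cov).1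
    exact ⟨by
      rw [← Set.range_eq_univ.mpr hs.surj]
      exact isCompact_range u'.continuous⟩
  have j3 : QuasiCompact (coprod.desc σ m'' ≫ pullback.snd b a) := quasiCompact_of_compactSpace _
  exact Descend.exists_rep (p := a) hsq I'.rep

theorem isMaxPt_of_isOpenImmersion {A B : Scheme.{u}} (j : A ⟶ B) [IsOpenImmersion j] {x : A}
    (hx : IsMaxPt x) : IsMaxPt (j x) := map_isMaxPt_of_flat j hx

/-- Reduction to surjective morphisms. -/
theorem step' {n : ℕ}
    (IH : ∀ {X Y S : Scheme.{u}} [IsNoetherian S] (a : X ⟶ S) [Flat a]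
      [LocallyOfFinitePresentation a] [QuasiCompact a] (b : Y ⟶ S) [FormallyUnramified b]
      [IsSeparated b] (h : X ⟶ Y), h ≫ b = a → Few a h n →
      ∃ (E : Scheme.{u}) (m : E ⟶ Y), Rep h m ∧ Etale (m ≫ b))
    {X Y S : Scheme.{u}} [IsNoetherian S] (a : X ⟶ S) [Flat a] [LocallyOfFinitePresentation a]
    [QuasiCompact a] (b : Y ⟶ S) [FormallyUnramified b] [IsSeparated b]
    (h : X ⟶ Y) (w : h ≫ b = a) (hf : Few a h (n + 1)) :
    ∃ (E : Scheme.{u}) (m : E ⟶ Y), Rep h m ∧ Etale (m ≫ b) := by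
  let S₁ : S.Opens := ⟨Set.range a, a.isOpenMap.isOpen_range⟩
  have hS₁q : QuasiCompact S₁.ι := qc_of_openImm S₁.ι
  have hS₁ : IsNoetherian S₁.toScheme := isNoetherian_of_ft S₁.ι
  let Y₁ : Y.Opens := b ⁻¹ᵁ S₁
  let b₁ : Y₁.toScheme ⟶ S₁.toScheme := b ∣_ S₁
  have hb₁ : b₁ ≫ S₁.ι = Y₁.ι ≫ b := morphismRestrict_ι b S₁
  have hb₁1 : FormallyUnramified b₁ := IsZariskiLocalAtTarget.restrict (P := @FormallyUnramified) ‹_› S₁
  have hb₁2 : IsSeparated b₁ := IsZariskiLocalAtTarget.restrict (P := @IsSeparated) ‹_› S₁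
  obtain ⟨a₁, ha₁⟩ : ∃ a₁ : X ⟶ S₁.toScheme, a₁ ≫ S₁.ι = a :=
    ⟨IsOpenImmersion.lift S₁.ι a (by rw [Scheme.Opens.range_ι]; exact subset_rfl),
      IsOpenImmersion.lift_fac _ _ _⟩
  obtain ⟨h₁, hh₁⟩ : ∃ h₁ : X ⟶ Y₁.toScheme, h₁ ≫ Y₁.ι = h := by
    refine ⟨IsOpenImmersion.lift Y₁.ι h ?_, IsOpenImmersion.lift_fac _ _ _⟩
    rw [Scheme.Opens.range_ι]
    rintro _ ⟨x, rfl⟩
    change b (h x) ∈ Set.range a
    exact ⟨x, by rw [← w]; rfl⟩
  have hfl : Flat a₁ := by
    have : Flat (a₁ ≫ S₁.ι) := by rw [ha₁]; infer_instance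
    exact MorphismProperty.of_postcomp (W := @Flat) (W' := @IsOpenImmersion) a₁ S₁.ι inferInstance this
  have hlfp : LocallyOfFinitePresentation a₁ := by
    have : LocallyOfFinitePresentation (a₁ ≫ S₁.ι) := by rw [ha₁]; infer_instance
    exact Groth.Agent.Ega43.FPOfComp.locallyOfFinitePresentation_of_comp a₁ S₁.ι
  have hqc : QuasiCompact a₁ := by
    have : QuasiCompact (a₁ ≫ S₁.ι) := by rw [ha₁]; infer_instance
    exact K991.Fact.quasiCompact_of_comp a₁ S₁.ι this
  have hsurj : Surjective a₁ := by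
    refine ⟨fun s => ?_⟩
    obtain ⟨x, hx⟩ : S₁.ι s ∈ Set.range a := s.2
    refine ⟨x, S₁.ι.isOpenEmbedding.injective ?_⟩
    rw [← hx, ← ha₁]
    rfl
  have w₁ : h₁ ≫ b₁ = a₁ := by
    rw [← cancel_mono S₁.ι, Category.assoc, hb₁, ← Category.assoc, hh₁, w, ha₁]
  have hf₁ : Few a₁ h₁ (n + 1) := by
    intro L _ _ s x hx hs
    obtain ⟨i, j, hij, hxy⟩ := hf L (s ≫ S₁.ι) x (fun i => by rw [← ha₁, ← Category.assoc, hx])
      (fun z => isMaxPt_of_isOpenImmersion S₁.ι (hs z))
    refine ⟨i, j, hij, ?_⟩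
    rw [← cancel_mono Y₁.ι, Category.assoc, hh₁, hxy, Category.assoc, hh₁]
  obtain ⟨E, m, hrep, het⟩ := step IH a₁ b₁ h₁ w₁ hf₁
  obtain ⟨u, I⟩ := hrep.isIm (img_self a₁ b₁ h₁ w₁)
  have hm := I.mono
  have I' : IsIm h u (m ≫ Y₁.ι) :=
    ⟨I.cov, mono_comp _ _, by rw [← Category.assoc, I.w, hh₁]⟩
  refine ⟨E, m ≫ Y₁.ι, I'.rep, ?_⟩
  rw [Category.assoc, ← hb₁, ← Category.assoc]
  infer_instance

theorem exists_rep_of_few (n : ℕ) : ∀ {X Y S : Scheme.{u}} [IsNoetherian S] (a : X ⟶ S) [Flat a]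
      [LocallyOfFinitePresentation a] [QuasiCompact a] (b : Y ⟶ S) [FormallyUnramified b]
      [IsSeparated b] (h : X ⟶ Y), h ≫ b = a → Few a h n →
      ∃ (E : Scheme.{u}) (m : E ⟶ Y), Rep h m ∧ Etale (m ≫ b) := by
  induction n with
  | zero =>
    intro X Y S _ a _ _ _ b _ _ h w hf
    have hX : IsEmpty X := few_zero a h hf
    have hopen : IsOpenImmersion h := inferInstance
    have I : IsIm h (𝟙 X) h := by
      refine ⟨(cov_iff _).mpr ⟨inferInstance, inferInstance, inferInstance, inferInstance⟩,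
        inferInstance, Category.id_comp _⟩
    refine ⟨X, h, I.rep, ?_⟩
    have : IsOpenImmersion (h ≫ b) := inferInstance
    infer_instance
  | succ n IH => exact step' IH

/-- Existence of flat images in separated formally unramified schemes. -/
theorem exists_rep_of_isSeparated {X Y S : Scheme.{u}} [IsNoetherian S] (a : X ⟶ S) [Flat a]
    [LocallyOfFinitePresentation a] [QuasiCompact a] (b : Y ⟶ S) [FormallyUnramified b]
    [IsSeparated b] (h : X ⟶ Y) (w : h ≫ b = a) :
    ∃ (E : Scheme.{u}) (m : E ⟶ Y), Rep h m ∧ Etale (m ≫ b) := by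
  obtain ⟨n, hn⟩ := exists_few a b h w
  exact exists_rep_of_few n a b h w hn

end K991.Main
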