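import Groth.Agent.EtHull.K991.DomCrit
import Mathlib.AlgebraicGeometry.Stalk
import Mathlib.AlgebraicGeometry.Morphisms.Integral
import Mathlib.AlgebraicGeometry.Morphisms.UniversallyInjective
import Mathlib.AlgebraicGeometry.Morphisms.Etale
import Mathlib.AlgebraicGeometry.Morphisms.WeaklyEtale

/-!
# Maximal points (points without proper generizations) and associated points; flatness of morphisms
to étale schemes.
-/

set_option autoImplicit false
universe u
open CategoryTheory CategoryTheory.Limits AlgebraicGeometry TopologicalSpace Opposite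

namespace K991.MaxPt

open K991.DomCrit

/-- A point without proper generizations. -/
def IsMaxPt {X : Type*} [TopologicalSpace X] (x : X) : Prop := ∀ y : X, y ⤳ x → y = x

theorem exists_isMaxPt {X : Type*} [TopologicalSpace X] [QuasiSober X] [T0Space X] (x : X) :
    ∃ z : X, z ⤳ x ∧ IsMaxPt z := by
  have hirr : IsIrreducible (irreducibleComponent x) := isIrreducible_irreducibleComponent
  have hcl : IsClosed (irreducibleComponent x) := isClosed_irreducibleComponent
  obtain ⟨z, hz⟩ := QuasiSober.sober hirr hcl
  refine ⟨z, hz.specializes mem_irreducibleComponent, fun y hy => ?_⟩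
  have h1 : irreducibleComponent x ⊆ closure {y} := by
    rw [← hz.def]
    exact hy.closure_subset
  have h2 := eq_irreducibleComponent (isPreirreducible_singleton.closure) h1
  have h3 : closure {y} = closure {z} := by rw [h2, hz.def]
  exact (inseparable_iff_closure_eq.mpr h3).eq

variable {X : Scheme.{u}}

theorem assPt_of_isMaxPt [IsLocallyNoetherian X] {x : X} (hx : IsMaxPt x) : x ∈ AssPt X := by
  change IsLocalRing.maximalIdeal (X.presheaf.stalk x) ∈
    associatedPrimes (X.presheaf.stalk x) (X.presheaf.stalk x)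
  apply Module.associatedPrimes.minimalPrimes_annihilator_subset_associatedPrimes
  have hmin : IsLocalRing.maximalIdeal (X.presheaf.stalk x) ∈
      minimalPrimes (X.presheaf.stalk x) := by
    refine ⟨⟨inferInstance, bot_le⟩, fun P hP hle => ?_⟩
    have hPp : P.IsPrime := hP.1
    have h1 : (X.fromSpecStalk x) ⟨P, hPp⟩ ⤳ x := by
      have : (X.fromSpecStalk x) ⟨P, hPp⟩ ∈ Set.range (X.fromSpecStalk x) := ⟨_, rfl⟩
      rwa [Scheme.range_fromSpecStalk] at this
    have h2 := hx _ h1
    have h3 : (X.fromSpecStalk x) (IsLocalRing.closedPoint _) = x :=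
      Scheme.fromSpecStalk_closedPoint
    have h4 := (X.fromSpecStalk x).isEmbedding.injective (h2.trans h3.symm)
    have h5 : P = IsLocalRing.maximalIdeal (X.presheaf.stalk x) :=
      congrArg PrimeSpectrum.asIdeal h4
    exact h5.ge
  have : (Module.annihilator (X.presheaf.stalk x) (X.presheaf.stalk x)).minimalPrimes =
      minimalPrimes (X.presheaf.stalk x) := by
    rw [Module.annihilator_eq_bot.mpr inferInstance]
  rw [this]
  exact hmin

theorem isMaxPt_or_exists [IsLocallyNoetherian X] (x : X) :
    IsMaxPt x ∨ ∃ t ∈ AssPt X, t ⤳ x ∧ t ≠ x := by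
  by_cases h : IsMaxPt x
  · exact Or.inl h
  · right
    obtain ⟨z, hz, hmax⟩ := exists_isMaxPt x
    refine ⟨z, assPt_of_isMaxPt hmax, hz, ?_⟩
    rintro rfl
    exact h hmax

/-- Associated points are the maximal points and the embedded ones. -/
theorem mem_assPt_iff [IsLocallyNoetherian X] (x : X) :
    x ∈ AssPt X ↔ IsMaxPt x ∨ (x ∈ AssPt X ∧ ∃ t ∈ AssPt X, t ⤳ x ∧ t ≠ x) := by
  constructor
  · intro h
    rcases isMaxPt_or_exists x with h1 | h1
    · exact Or.inl h1
    · exact Or.inr ⟨h, h1⟩
  · rintro (h | h)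
    · exact assPt_of_isMaxPt h
    · exact h.1

theorem isMaxPt_of_noEmbedded [IsLocallyNoetherian X]
    (h : AssSch.NoEmbedded (Coh.structureModule X)) {x : X} (hx : x ∈ AssPt X) : IsMaxPt x := by
  rcases isMaxPt_or_exists x with h1 | ⟨t, ht, htx, hne⟩
  · exact h1
  · exact absurd (h x ((mem_Ass_iff x).mpr hx) t ((mem_Ass_iff t).mpr ht) htx).symm hne

section Flat

variable {X E S : Scheme.{u}}

theorem hasOfPostcomp_flat : MorphismProperty.HasOfPostcompProperty
    (C := Scheme.{u}) @Flat @WeaklyEtale :=
  (MorphismProperty.hasOfPostcompProperty_iff_le_diagonal (C := Scheme.{u}) (P := @Flat)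
    (Q := @WeaklyEtale)).mpr fun _ _ _ hf => hf.flat_diagonal

/-- An `S`-morphism from a flat `S`-scheme to an étale `S`-scheme is flat. -/
theorem flat_of_comp_etale (u : X ⟶ E) (g : E ⟶ S) [Etale g] (h : Flat (u ≫ g)) : Flat u :=
  hasOfPostcomp_flat.of_postcomp u g inferInstance h

end Flat

end K991.MaxPt
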