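import Groth.Agent.S2821
import Groth.Agent.CalgA.SerreLocal
import Mathlib.Algebra.GCDMonoid.Finset
import Mathlib.RingTheory.UniqueFactorizationDomain.GCDMonoid
import Mathlib.RingTheory.Ideal.Height
import Mathlib.RingTheory.Ideal.MinimalPrime.Noetherian

/-!
# Codimension one part of an ideal in a locally factorial Noetherian ring
-/

set_option autoImplicit false
universe u

namespace K991.RegAlg

/-- In a factorial domain, every finite family is a multiple of its gcd, and the quotients are not all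
contained in a prime of height at most one. -/
theorem exists_gcd {S : Type u} [CommRing S] [IsDomain S] [UniqueFactorizationMonoid S]
    {ι : Type*} (s : Finset ι) (hs : s.Nonempty) (a : ι → S) :
    ∃ (G : S) (g : ι → S), (∀ i ∈ s, a i = G * g i) ∧
      ∀ (q : Ideal S) [q.IsPrime], q.height ≤ 1 → ∃ i ∈ s, g i ∉ q := by
  classical
  let := UniqueFactorizationMonoid.strongNormalizationMonoid (α := S)
  let := UniqueFactorizationMonoid.toNormalizedGCDMonoid S
  obtain ⟨g, hg, hg1⟩ := Finset.extract_gcd a hs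
  refine ⟨s.gcd a, g, hg, ?_⟩
  intro q hq hq1
  by_contra hcon
  push Not at hcon
  by_cases hbot : q = ⊥
  · have h0 : s.gcd g = 0 := by
      rw [Finset.gcd_eq_zero_iff]
      intro i hi
      have := hcon i hi
      rwa [hbot, Ideal.mem_bot] at this
    rw [hg1] at h0
    exact one_ne_zero h0
  · obtain ⟨π, hπq, hπ⟩ := hq.exists_mem_prime_of_ne_bot hbot
    have hle : Ideal.span {π} ≤ q := (Ideal.span_singleton_le_iff_mem _).mpr hπq
    have hpr : (Ideal.span {π}).IsPrime := (Ideal.span_singleton_prime hπ.ne_zero).mpr hπ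
    have heq : Ideal.span {π} = q := by
      by_contra hne
      have hlt : Ideal.span {π} < q := lt_of_le_of_ne hle hne
      have hbl : (⊥ : Ideal S) < Ideal.span {π} := by
        rw [bot_lt_iff_ne_bot, Ne, Ideal.span_singleton_eq_bot]
        exact hπ.ne_zero
      have h2 : (2 : ℕ∞) ≤ q.height := by
        have h1 := Ideal.height_add_one_le_of_lt_of_isPrime hlt
        have h0 := Ideal.height_add_one_le_of_lt_of_isPrime hbl
        calc (2 : ℕ∞) = 0 + 1 + 1 := by norm_num
          _ ≤ (⊥ : Ideal S).height + 1 + 1 := by gcongr; exact zero_le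
          _ ≤ (Ideal.span {π}).height + 1 := by gcongr
          _ ≤ q.height := h1
      have := h2.trans hq1
      norm_num at this
    have hdvd : π ∣ s.gcd g := by
      rw [Finset.dvd_gcd_iff]
      intro i hi
      have := hcon i hi
      rwa [← heq, Ideal.mem_span_singleton] at this
    rw [hg1] at hdvd
    exact hπ.not_isUnit (isUnit_of_dvd_one hdvd)

/-- Around a factorial prime, the zero locus of an ideal is the union of a principal one and one of
codimension at least two. -/
theorem exists_codim_two {B : Type u} [CommRing B] [IsNoetherianRing B] (p : Ideal B) [hp : p.IsPrime]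
    [IsDomain (Localization.AtPrime p)] [UniqueFactorizationMonoid (Localization.AtPrime p)]
    (I : Ideal B) :
    ∃ (f h : B) (J : Ideal B), f ∉ p ∧
      (∀ q : Ideal B, q.IsPrime → f ∉ q → (I ≤ q ↔ h ∈ q ∨ J ≤ q)) ∧
      (∀ q : Ideal B, q.IsPrime → J ≤ q → (2 : ℕ∞) ≤ q.height) := by
  classical
  suffices hsuff : ∃ (f h : B) (J : Ideal B), f ∉ p ∧
      (∀ q : Ideal B, q.IsPrime → f ∉ q → (I ≤ q ↔ h ∈ q ∨ J ≤ q)) ∧
      (∀ q : Ideal B, q.IsPrime → f ∉ q → J ≤ q → (2 : ℕ∞) ≤ q.height) by
    obtain ⟨f, h, J, hf, h1, h2⟩ := hsuff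
    have hfin : (J.minimalPrimes).Finite := Ideal.finite_minimalPrimes_of_isNoetherianRing B J
    let T : Finset (Ideal B) := hfin.toFinset.filter fun r => (2 : ℕ∞) ≤ r.height
    have hT : ∀ r, r ∈ T ↔ r ∈ J.minimalPrimes ∧ (2 : ℕ∞) ≤ r.height := by
      intro r
      simp only [T, Finset.mem_filter, Set.Finite.mem_toFinset]
    have hJ' : ∀ q : Ideal B, q.IsPrime → (T.inf id ≤ q ↔ ∃ r ∈ T, r ≤ q) := by
      intro q hq
      exact hq.inf_le'
    refine ⟨f, h, T.inf id, hf, ?_, ?_⟩
    · intro q hq hfq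
      rw [h1 q hq hfq, hJ' q hq]
      refine or_congr Iff.rfl ⟨fun hJq => ?_, ?_⟩
      · obtain ⟨r, hr, hrq⟩ := Ideal.exists_minimalPrimes_le hJq
        exact ⟨r, (hT r).mpr ⟨hr, h2 r hr.1.1 (fun hfr => hfq (hrq hfr)) hr.1.2⟩, hrq⟩
      · rintro ⟨r, hr, hrq⟩
        exact ((hT r).mp hr).1.1.2.trans hrq
    · intro q hq hJq
      obtain ⟨r, hr, hrq⟩ := (hJ' q hq).mp hJq
      exact ((hT r).mp hr).2.trans (Ideal.height_mono hrq)
  obtain ⟨s₀, hs₀⟩ := IsNoetherian.noetherian I
  obtain ⟨s, hs, hI⟩ : ∃ s : Finset B, s.Nonempty ∧ Ideal.span (s : Set B) = I := by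
    refine ⟨insert 0 s₀, Finset.insert_nonempty _ _, ?_⟩
    rw [← hs₀, Finset.coe_insert]
    exact Submodule.span_insert_zero
  let S := Localization.AtPrime p
  obtain ⟨G, g, hg, hgq⟩ := exists_gcd s hs (fun b => algebraMap B S b)
  obtain ⟨⟨h, t⟩, hG⟩ := IsLocalization.surj p.primeCompl G
  simp only at hG
  have hgc : ∀ b, ∃ (c : B) (t' : p.primeCompl), g b * algebraMap B S t' = algebraMap B S c := by
    intro b
    obtain ⟨⟨c, t'⟩, hc⟩ := IsLocalization.surj p.primeCompl (g b)
    exact ⟨c, t', hc⟩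
  choose c t' hc using hgc
  have hex : ∀ b : B, ∃ t'' : p.primeCompl, b ∈ s → (t'' : B) * (t * t' b * b) = t'' * (h * c b) := by
    intro b
    by_cases hb : b ∈ s
    · have h1 : algebraMap B S (t * t' b * b) = algebraMap B S (h * c b) := by
        simp only [map_mul]
        rw [← hG, ← hc, hg b hb]
        ring
      rw [IsLocalization.eq_iff_exists p.primeCompl] at h1
      obtain ⟨t'', ht''⟩ := h1
      exact ⟨t'', fun _ => ht''⟩
    · exact ⟨1, fun h => absurd h hb⟩
  choose t'' ht'' using hex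
  let J : Ideal B := Ideal.span (c '' (s : Set B))
  have hJmem : ∀ q : Ideal B, J ≤ q ↔ ∀ b ∈ s, c b ∈ q := by
    intro q
    rw [Ideal.span_le, Set.image_subset_iff]
    rfl
  -- the first denominator
  let f₁ : B := ∏ b ∈ s, ((t'' b : B) * (t * t' b))
  have hf₁ : f₁ ∉ p := by
    rw [hp.prod_mem_iff]
    push Not
    intro b _
    exact (t'' b * (t * t' b)).2
  -- the second denominator
  have hfin : (J.minimalPrimes).Finite := Ideal.finite_minimalPrimes_of_isNoetherianRing B J
  have hex2 : ∀ r : Ideal B, ∃ e : B, e ∉ p ∧ (¬ r ≤ p → e ∈ r) := by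
    intro r
    by_cases hr : r ≤ p
    · exact ⟨1, fun h => hp.ne_top ((Ideal.eq_top_iff_one _).mpr h), fun h => absurd hr h⟩
    · obtain ⟨e, he, hep⟩ := SetLike.not_le_iff_exists.mp hr
      exact ⟨e, hep, fun _ => he⟩
  choose e he her using hex2
  let f₂ : B := ∏ r ∈ hfin.toFinset, e r
  have hf₂ : f₂ ∉ p := by
    rw [hp.prod_mem_iff]
    push Not
    intro r _
    exact he r
  refine ⟨f₁ * f₂, h, J, fun hmem => (hp.mem_or_mem hmem).elim hf₁ hf₂, ?_, ?_⟩
  · intro q hq hfq
    have hf₁q : f₁ ∉ q := fun hm => hfq (Ideal.mul_mem_right _ _ hm)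
    rw [hq.prod_mem_iff] at hf₁q
    push Not at hf₁q
    have hIq : I ≤ q ↔ ∀ b ∈ s, b ∈ q := by
      rw [← hI, Ideal.span_le]
      rfl
    have key : ∀ b ∈ s, (b ∈ q ↔ h * c b ∈ q) := by
      intro b hb
      have h1 := hf₁q b hb
      have h2 : (t'' b : B) ∉ q := fun hm => h1 (Ideal.mul_mem_right _ _ hm)
      have h3 : (t * t' b : B) ∉ q := fun hm => h1 (Ideal.mul_mem_left _ _ hm)
      constructor
      · intro hbq
        have h4 : (t'' b : B) * (h * c b) ∈ q := by
          rw [← ht'' b hb]
          exact Ideal.mul_mem_left _ _ (Ideal.mul_mem_left _ _ hbq)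
        exact (hq.mem_or_mem h4).resolve_left h2
      · intro hbq
        have h4 : (t'' b : B) * (t * t' b * b) ∈ q := by
          rw [ht'' b hb]
          exact Ideal.mul_mem_left _ _ hbq
        exact ((hq.mem_or_mem h4).resolve_left h2 |> hq.mem_or_mem).resolve_left h3
    rw [hIq, hJmem]
    constructor
    · intro hall
      by_cases hh : h ∈ q
      · exact Or.inl hh
      · refine Or.inr fun b hb => ?_
        exact (hq.mem_or_mem ((key b hb).mp (hall b hb))).resolve_left hh
    · rintro (hh | hall) b hb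
      · exact (key b hb).mpr (Ideal.mul_mem_right _ _ hh)
      · exact (key b hb).mpr (Ideal.mul_mem_left _ _ (hall b hb))
  · intro q hq hfq hJq
    obtain ⟨r, hr, hrq⟩ := Ideal.exists_minimalPrimes_le hJq
    have hf₂q : f₂ ∉ q := fun hm => hfq (Ideal.mul_mem_left _ _ hm)
    rw [hq.prod_mem_iff] at hf₂q
    push Not at hf₂q
    have hrp : r ≤ p := by
      by_contra hrp
      exact hf₂q r (by simpa using hr) (hrq (her r hrp))
    have hrpr : r.IsPrime := hr.1.1
    refine le_trans ?_ (Ideal.height_mono hrq)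
    by_contra hlt
    push Not at hlt
    have hle1 : r.height ≤ 1 := Order.le_of_lt_add_one (by simpa [one_add_one_eq_two] using hlt)
    have hdis : Disjoint (p.primeCompl : Set B) (r : Set B) := by
      rw [Set.disjoint_left]
      intro x hx hxr
      exact hx (hrp hxr)
    have hQ : (r.map (algebraMap B S)).IsPrime :=
      IsLocalization.isPrime_of_isPrime_disjoint p.primeCompl S r hrpr hdis
    have hht : (r.map (algebraMap B S)).height = r.height := by
      rw [IsLocalization.height_map_of_disjoint (S := S) p.primeCompl r hdis]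
    obtain ⟨b, hb, hgb⟩ := hgq (r.map (algebraMap B S)) (by rw [hht]; exact hle1)
    apply hgb
    have h1 : algebraMap B S (c b) ∈ r.map (algebraMap B S) :=
      Ideal.mem_map_of_mem _ ((hJmem r).mp hr.1.2 b hb)
    rw [← hc] at h1
    exact (hQ.mem_or_mem h1).resolve_right fun h2 =>
      hQ.ne_top (Ideal.eq_top_of_isUnit_mem _ h2 (IsLocalization.map_units S (t' b)))

/-- A regular local ring of dimension at least two has depth at least two. -/
theorem two_le_depth (A : Type u) [CommRing A] [IsRegularLocalRing A] (h : 2 ≤ ringKrullDim A) :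
    2 ≤ LocCoh.depth A A := by
  obtain ⟨hdom, hufd⟩ := Groth.Agent.S2821.result A
  refine Groth.Agent.CalgA.SerreLocal.two_le_depth_of_isIntegrallyClosed (R := A) fun h1 => ?_
  have := h.trans h1
  norm_num at this

end K991.RegAlg
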