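import Groth.Agent.EtHull.K991.RegAlg
import Groth.Agent.Pi1A.DepthSpread
import Mathlib.AlgebraicGeometry.Morphisms.Etale
import Mathlib.AlgebraicGeometry.Morphisms.QuasiSeparated
import Mathlib.RingTheory.RingHom.Etale

/-!
# The affine hull of an open subscheme of a regular affine scheme
-/

set_option autoImplicit false
universe u
open CategoryTheory AlgebraicGeometry TopologicalSpace Opposite

namespace K991.RegHull

theorem etale_basicOpen (X : Scheme.{u}) [IsAffine X] (g : Γ(X, ⊤)) :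
    (X.presheaf.map (homOfLE (le_top : X.basicOpen g ≤ ⊤)).op).hom.Etale := by
  have := (isAffineOpen_top X).isLocalization_basicOpen g
  exact (RingHom.etale_algebraMap (R := Γ(X, ⊤)) (S := Γ(X, X.basicOpen g))).mpr
    (Algebra.Etale.of_isLocalizationAway g)

theorem etale_of_eq {X : Scheme.{u}} {V V' : X.Opens} (e : V = V') 
    (h : (X.presheaf.map (homOfLE (le_top : V ≤ ⊤)).op).hom.Etale) :
    (X.presheaf.map (homOfLE (le_top : V' ≤ ⊤)).op).hom.Etale := by
  subst e
  exact h

/-- Etaleness of the sections over `W` may be checked locally on the affine scheme. -/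
theorem etale_of_local (X : Scheme.{u}) [IsAffine X] (W : X.Opens) (hW : IsCompact (W : Set X))
    (h : ∀ x : X, ∃ f : Γ(X, ⊤), x ∈ X.basicOpen f ∧
      (X.presheaf.map (homOfLE (le_top : W ⊓ X.basicOpen f ≤ ⊤)).op).hom.Etale) :
    (X.presheaf.map (homOfLE (le_top : W ≤ ⊤)).op).hom.Etale := by
  choose f hf hfe using h
  let ρ : Γ(X, ⊤) →+* Γ(X, W) := (X.presheaf.map (homOfLE (le_top : W ≤ ⊤)).op).hom
  have hspan : Ideal.span (Set.range f) = ⊤ := by
    rw [← (isAffineOpen_top X).iSup_basicOpen_eq_self_iff]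
    rw [eq_top_iff]
    intro x _
    rw [Opens.mem_iSup]
    exact ⟨⟨f x, x, rfl⟩, hf x⟩
  have hqs : IsQuasiSeparated (W : Set X) := IsQuasiSeparated.of_quasiSeparatedSpace _
  refine RingHom.Etale.ofLocalizationSpanTarget ρ (ρ '' Set.range f) ?_ ?_
  · rw [← Ideal.map_span, hspan, Ideal.map_top]
  · rintro ⟨_, _, ⟨x, rfl⟩, rfl⟩
    have hloc := isLocalization_basicOpen_of_qcqs hW hqs (ρ (f x))
    let e : Localization.Away (ρ (f x)) ≃ₐ[Γ(X, W)] Γ(X, X.basicOpen (ρ (f x))) :=
      IsLocalization.algEquiv (Submonoid.powers (ρ (f x))) _ _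
    have hb : X.basicOpen (ρ (f x)) = W ⊓ X.basicOpen (f x) := Scheme.basicOpen_res _ _ _
    have h1 := etale_of_eq hb.symm (hfe x)
    have h2 : (X.presheaf.map (homOfLE (le_top : X.basicOpen (ρ (f x)) ≤ ⊤)).op).hom =
        (algebraMap Γ(X, W) Γ(X, X.basicOpen (ρ (f x)))).comp ρ := by
      change _ = (X.presheaf.map (homOfLE (X.basicOpen_le (ρ (f x)))).op).hom.comp ρ
      rw [← CommRingCat.hom_comp, ← Functor.map_comp]
      rfl
    have h3 : (algebraMap Γ(X, W) (Localization.Away (ρ (f x)))).comp ρ =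
        (e.symm : _ →+* _).comp (X.presheaf.map
          (homOfLE (le_top : X.basicOpen (ρ (f x)) ≤ ⊤)).op).hom := by
      rw [h2, ← RingHom.comp_assoc]
      congr 1
      ext a
      simp
    rw [h3]
    exact RingHom.Etale.stableUnderComposition _ _ h1 (.of_bijective e.symm.bijective)

variable {B : Type u} [CommRing B]

theorem isRegular_atPrime {x : Spec (.of B)} (h : IsRegularLocalRing ((Spec (.of B)).presheaf.stalk x)) :
    IsRegularLocalRing (Localization.AtPrime (PrimeSpectrum.asIdeal x)) := by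
  let k : Algebra B ↑((Spec (.of B)).presheaf.stalk x) := StructureSheaf.stalkAlgebra B x
  have : IsLocalization.AtPrime (↑((Spec (.of B)).presheaf.stalk x)) (PrimeSpectrum.asIdeal x) :=
    StructureSheaf.IsLocalization.to_stalk B x
  exact .of_ringEquiv (IsLocalization.algEquiv (PrimeSpectrum.asIdeal x).primeCompl
    ((Spec (.of B)).presheaf.stalk x) (Localization.AtPrime (PrimeSpectrum.asIdeal x))).toRingEquiv

theorem exists_local [IsNoetherianRing B]
    (hreg : ∀ x : Spec (.of B), IsRegularLocalRing ((Spec (.of B)).presheaf.stalk x))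
    (W : (Spec (.of B)).Opens) (x : Spec (.of B)) :
    ∃ f : Γ(Spec (.of B), ⊤), x ∈ (Spec (.of B)).basicOpen f ∧
      ((Spec (.of B)).presheaf.map
        (homOfLE (le_top : W ⊓ (Spec (.of B)).basicOpen f ≤ ⊤)).op).hom.Etale := by
  obtain ⟨I, hI⟩ := (PrimeSpectrum.isClosed_iff_zeroLocus_ideal _).mp W.isOpen.isClosed_compl
  have hmem : ∀ y : PrimeSpectrum B, (y : Spec (.of B)) ∉ W ↔ I ≤ y.asIdeal := by
    intro y
    rw [← SetLike.coe_subset_coe, ← PrimeSpectrum.mem_zeroLocus, ← hI]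
    rfl
  have hr := isRegular_atPrime (hreg x)
  obtain ⟨hdom, hufd⟩ := Groth.Agent.S2821.result (Localization.AtPrime (PrimeSpectrum.asIdeal x))
  obtain ⟨f, h, J, hf, h1, h2⟩ := RegAlg.exists_codim_two (PrimeSpectrum.asIdeal x) I
  let UJ : (Spec (.of B)).Opens :=
    ⟨(PrimeSpectrum.zeroLocus (J : Set B))ᶜ, (PrimeSpectrum.isClosed_zeroLocus _).isOpen_compl⟩
  have hUJ : ∀ y : Spec (.of B), y ∈ UJ ↔ ¬ J ≤ PrimeSpectrum.asIdeal y := fun y => Iff.rfl
  have hdepth : ∀ y : Spec (.of B), y ∉ UJ → (2 : ℕ∞) ≤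
      LocCoh.depth ((Spec (.of B)).presheaf.stalk y) ((Spec (.of B)).presheaf.stalk y) := by
    intro y hy
    have hJy : J ≤ PrimeSpectrum.asIdeal y := by
      have := (hUJ y).not.mp hy
      push Not at this
      exact this
    have := hreg y
    refine RegAlg.two_le_depth _ ?_
    let k : Algebra B ↑((Spec (.of B)).presheaf.stalk y) := StructureSheaf.stalkAlgebra B y
    have : IsLocalization.AtPrime (↑((Spec (.of B)).presheaf.stalk y)) (PrimeSpectrum.asIdeal y) :=
      StructureSheaf.IsLocalization.to_stalk B y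
    rw [IsLocalization.AtPrime.ringKrullDim_eq_height (PrimeSpectrum.asIdeal y)
      ((Spec (.of B)).presheaf.stalk y)]
    exact WithBot.coe_le_coe.mpr (h2 _ (PrimeSpectrum.isPrime y) hJy)
  let F : Γ(Spec (.of B), ⊤) := (Scheme.ΓSpecIso (.of B)).inv f
  let H : Γ(Spec (.of B), ⊤) := (Scheme.ΓSpecIso (.of B)).inv h
  have hF : ∀ y : Spec (.of B), y ∈ (Spec (.of B)).basicOpen F ↔
      f ∉ PrimeSpectrum.asIdeal y := by
    intro y
    rw [AlgebraicGeometry.basicOpen_eq_of_affine]
    exact PrimeSpectrum.mem_basicOpen _ _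
  have hH : ∀ y : Spec (.of B), y ∈ (Spec (.of B)).basicOpen H ↔
      h ∉ PrimeSpectrum.asIdeal y := by
    intro y
    rw [AlgebraicGeometry.basicOpen_eq_of_affine]
    exact PrimeSpectrum.mem_basicOpen _ _
  have hFH : (Spec (.of B)).basicOpen (F * H) =
      (Spec (.of B)).basicOpen F ⊓ (Spec (.of B)).basicOpen H := Scheme.basicOpen_mul _ _ _
  have hopen : (Spec (.of B)).basicOpen (F * H) ⊓ UJ = W ⊓ (Spec (.of B)).basicOpen F := by
    rw [hFH]
    ext y
    simp only [Opens.coe_inf, Set.mem_inter_iff, SetLike.mem_coe]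
    rw [hF y, hH y, hUJ y]
    constructor
    · rintro ⟨⟨hfy, hhy⟩, hJy⟩
      refine ⟨?_, hfy⟩
      by_contra hyW
      exact ((h1 _ (PrimeSpectrum.isPrime y) hfy).mp ((hmem y).mp hyW)).elim hhy hJy
    · rintro ⟨hyW, hfy⟩
      have h3 : ¬ (h ∈ PrimeSpectrum.asIdeal y ∨ J ≤ PrimeSpectrum.asIdeal y) := by
        rw [← h1 _ (PrimeSpectrum.isPrime y) hfy, ← hmem y, not_not]
        exact hyW
      rw [not_or] at h3
      exact ⟨⟨hfy, h3.1⟩, h3.2⟩
  refine ⟨F, (hF x).mpr hf, ?_⟩
  refine etale_of_eq hopen ?_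
  have hbij := Groth.Agent.Pi1A.DepthSpread.bijective_res_of_depth UJ hdepth (𝟙 (Spec (.of B)))
    ((Spec (.of B)).basicOpen (F * H))
  have h4 : ((Spec (.of B)).presheaf.map (homOfLE
      (le_top : (Spec (.of B)).basicOpen (F * H) ⊓ UJ ≤ ⊤)).op).hom =
      ((Spec (.of B)).presheaf.map (homOfLE (inf_le_left :
        (Spec (.of B)).basicOpen (F * H) ⊓ UJ ≤ (Spec (.of B)).basicOpen (F * H))).op).hom.comp
      ((Spec (.of B)).presheaf.map (homOfLE
        (le_top : (Spec (.of B)).basicOpen (F * H) ≤ ⊤)).op).hom := by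
    rw [← CommRingCat.hom_comp, ← Functor.map_comp]
    rfl
  rw [h4]
  exact RingHom.Etale.stableUnderComposition _ _ (etale_basicOpen _ _) (.of_bijective hbij)

/-- The affine hull of an open subscheme of a regular Noetherian affine scheme is étale over it. -/
theorem etale_SpecMap_appTop [IsNoetherianRing B]
    (hreg : ∀ x : Spec (.of B), IsRegularLocalRing ((Spec (.of B)).presheaf.stalk x))
    {U : Scheme.{u}} (j : U ⟶ Spec (.of B)) [IsOpenImmersion j] : Etale (Spec.map j.appTop) := by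
  have h1 : ∀ W : (Spec (.of B)).Opens, Etale (Spec.map W.ι.appTop) := by
    intro W
    have h2 := etale_of_local (Spec (.of B)) W (NoetherianSpace.isCompact _)
      (exists_local hreg W)
    have h3 : W.ι.appTop.hom.Etale := by
      have h4 := etale_of_eq W.ι_image_top.symm h2
      exact h4
    exact HasRingHomProperty.Spec_iff.mpr h3
  have h5 : j = j.isoOpensRange.hom ≫ j.opensRange.ι := by simp
  have h6 : Spec.map j.appTop =
      Spec.map j.isoOpensRange.hom.appTop ≫ Spec.map j.opensRange.ι.appTop := by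
    rw [← Spec.map_comp, ← Scheme.Hom.comp_appTop, ← h5]
  have h7 := h1 j.opensRange
  have h9 : IsIso j.isoOpensRange.hom.appTop :=
    inferInstanceAs (IsIso (Scheme.Γ.map j.isoOpensRange.hom.op))
  have h8 : IsIso (Spec.map j.isoOpensRange.hom.appTop) := inferInstance
  rw [h6]
  exact MorphismProperty.comp_mem _ _ _ inferInstance h7

end K991.RegHull
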